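import Cfsg.Agent.Lib.MaxSub.ExtLin.Small
import Cfsg.Agent.Lib.Aschbacher.Proper
import Cfsg.Agent.Lib.MaxSub.ElusiveSinger
import Cfsg.Agent.Lib.StSL.Presentation
import Mathlib.FieldTheory.Finite.GaloisField

/-!
Normalisers of extension fields are maximal.
-/

set_option autoImplicit false

namespace CfsgLib.MaxSub.ExtLin

open Matrix Module

section abstract

variable {F K V : Type*} [Field F] [Field K] [Algebra F K] [AddCommGroup V] [Module F V]
  [Module K V] [IsScalarTower F K V] [FiniteDimensional F V] [FiniteDimensional F K]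

omit [Algebra F K] [IsScalarTower F K V] [FiniteDimensional F K] [FiniteDimensional F V] in
/-- A map permuting the lines over the extension field is semilinear. -/
theorem exists_semilinear (hm : ∀ v : V, ∃ z, z ∉ K ∙ v) {g : V ≃ₗ[F] V}
    (hg : ∀ (k : K) (v : V), g (k • v) ∈ K ∙ g v)
    (hg' : ∀ (k : K) (v : V), g.symm (k • v) ∈ K ∙ g.symm v) (k : K) :
    ∃ k' : K, ∀ v, g (k • v) = k' • g v := by
  choose θ hθ using fun v => Submodule.mem_span_singleton.1 (hg k v)
  have hind : ∀ v w, v ≠ 0 → w ∉ K ∙ v → θ v = θ w := by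
    intro v w hv hw
    have hgw : g w ∉ K ∙ g v := fun h => by
      obtain ⟨a, ha⟩ := Submodule.mem_span_singleton.1 h
      refine hw ?_
      rw [← g.symm_apply_apply w, ← ha]
      simpa using hg' a (g v)
    have h : (θ (v + w) - θ v) • g v + (θ (v + w) - θ w) • g w = 0 := by
      have h1 := hθ (v + w)
      rw [smul_add, map_add, map_add, ← hθ v, ← hθ w, smul_add] at h1
      rw [sub_smul, sub_smul, ← sub_eq_zero.2 h1]
      abel
    have hgv : g v ≠ 0 := fun e => hv (g.map_eq_zero_iff.1 e)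
    have h0 : θ (v + w) - θ w = 0 := by_contra fun hne => hgw (Submodule.mem_span_singleton.2
      ⟨-((θ (v + w) - θ w)⁻¹ * (θ (v + w) - θ v)), by
        rw [neg_smul, mul_smul, eq_neg_of_add_eq_zero_left h, smul_neg, neg_neg, inv_smul_smul₀ hne]⟩)
    rw [h0, zero_smul, add_zero] at h
    rw [← sub_eq_zero.1 ((smul_eq_zero.1 h).resolve_right hgv), sub_eq_zero.1 h0]
  by_cases htriv : ∀ v : V, v = 0
  · exact ⟨0, fun v => by simp [htriv v]⟩
  push Not at htriv
  obtain ⟨v₀, hv₀⟩ := htriv
  refine ⟨θ v₀, fun v => ?_⟩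
  rcases eq_or_ne v 0 with rfl | hv
  · simp
  rw [← hθ v]
  by_cases h : v ∈ K ∙ v₀
  · obtain ⟨z, hz⟩ := hm v₀
    have hz' : z ∉ K ∙ v := fun hzv => hz ((Submodule.span_singleton_le_iff_mem _ _).2 h hzv)
    rw [hind v z hv hz', ← hind v₀ z hv₀ hz]
  · rw [hind v₀ v hv₀ h]

end abstract

variable {F : Type*} [Field F] [Fintype F] {n : ℕ}

/-- The matrix group as a group of linear maps. -/
noncomputable def gmap : GL (Fin n) F ≃* ((Fin n → F) ≃ₗ[F] (Fin n → F)) :=
  (Matrix.GeneralLinearGroup.toLin).trans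
    (LinearMap.GeneralLinearGroup.generalLinearEquiv F (Fin n → F))

omit [Fintype F] in
theorem gmap_apply (g : GL (Fin n) F) (x : Fin n → F) :
    gmap g x = (g : Matrix (Fin n) (Fin n) F) *ᵥ x := rfl

omit [Fintype F] in
theorem gmap_det (g : GL (Fin n) F) :
    LinearMap.det (gmap g).toLinearMap = (g : Matrix (Fin n) (Fin n) F).det := by
  rw [show (gmap g).toLinearMap = Matrix.toLin' (g : Matrix (Fin n) (Fin n) F) from
    LinearMap.ext fun x => rfl, LinearMap.det_toLin']

omit [Fintype F] in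
theorem gmap_inv_apply (g : GL (Fin n) F) (x : Fin n → F) :
    (gmap g).symm x = ((g⁻¹ : GL (Fin n) F) : Matrix (Fin n) (Fin n) F) *ᵥ x := by
  show ((gmap g)⁻¹ : (Fin n → F) ≃ₗ[F] (Fin n → F)) x = _
  rw [← map_inv]
  rfl

/-- The normaliser of the image of an extension field. -/
theorem normalizer_over_of {L : Type*} [Field L] [Algebra F L] {r : ℕ} (hr : r.Prime) (hrn : r ∣ n) (hlt : r < n)
    {K : Subalgebra F (Matrix (Fin n) (Fin n) F)} (ρ : L →ₐ[F] Matrix (Fin n) (Fin n) F)
    (hρ : ∀ M, M ∈ K ↔ ∃ l, ρ l = M) (hinj : Function.Injective ρ) (hrank : finrank F L = r) :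
    (∀ G : Subgroup (GL (Fin n) F),
      Cfsg.Geo.subalgebraNormalizer K ⊓ Cfsg.Geo.specialLinear (Fin n) F ≤ G →
      ¬ G ≤ Cfsg.Geo.subalgebraNormalizer K → Cfsg.Geo.specialLinear (Fin n) F ≤ G) ∧
    ∀ c : Fˣ, ∃ g ∈ Cfsg.Geo.subalgebraNormalizer K, Matrix.GeneralLinearGroup.det g = c := by
  classical
  have hρm : ∀ l, ρ l ∈ K := fun l => (hρ _).2 ⟨l, rfl⟩
  letI : Module L (Fin n → F) := Module.compHom _
    ((Matrix.toLinAlgEquiv' : Matrix (Fin n) (Fin n) F ≃ₐ[F] _).toAlgHom.toRingHom.comp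
      ρ.toRingHom)
  have hsmul : ∀ (k : L) (x : Fin n → F), k • x = ρ k *ᵥ x :=
    fun k x => Matrix.toLinAlgEquiv'_apply _ _
  haveI : IsScalarTower F L (Fin n → F) := ⟨fun a k x => by
    rw [hsmul, hsmul, map_smul, Matrix.smul_mulVec]⟩
  haveI : FiniteDimensional F L := FiniteDimensional.of_finrank_pos (by rw [hrank]; exact hr.pos)
  haveI : Module.Finite L (Fin n → F) := Module.Finite.right F L (Fin n → F)
  haveI : Finite L := Module.finite_of_finite F
  have htower : r * finrank L (Fin n → F) = n := by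
    rw [← hrank, Module.finrank_mul_finrank F L (Fin n → F), Module.finrank_fin_fun]
  have htwo : 2 ≤ finrank L (Fin n → F) := by
    by_contra h
    rcases (show finrank L (Fin n → F) = 0 ∨ finrank L (Fin n → F) = 1 by omega) with e | e <;>
      rw [e] at htower <;> omega
  have hm : ∀ v : Fin n → F, ∃ z, z ∉ L ∙ v := fun v => by
    by_contra hc
    push Not at hc
    have h1 := (finrank_span_le_card ({v} : Set (Fin n → F)) (R := L))
    rw [show L ∙ v = ⊤ from eq_top_iff.2 fun w _ => hc w, finrank_top] at h1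
    simp at h1
    omega
  -- preservation of the lines is normalisation
  have hnorm : ∀ g : GL (Fin n) F, g ∈ Cfsg.Geo.subalgebraNormalizer K ↔
      ∀ (k : L) (v : Fin n → F), gmap g (k • v) ∈ L ∙ gmap g v := by
    intro g
    refine ⟨fun hg k v => ?_, fun hg => ?_⟩
    · obtain ⟨l, hl⟩ := (hρ _).1 ((hg _).1 (hρm k))
      refine Submodule.mem_span_singleton.2 ⟨l, ?_⟩
      rw [gmap_apply, gmap_apply, hsmul, hsmul, hl, Matrix.mulVec_mulVec, Matrix.mulVec_mulVec,
        mul_assoc, Units.inv_mul, mul_one]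
    have hsemi : ∀ k : L, ∃ k' : L, ∀ v, gmap g (k • v) = k' • gmap g v := by
      refine exists_semilinear hm hg ?_
      intro k v
      by_cases hv : v = 0
      · simp [hv]
      let Lm : L →ₗ[F] (Fin n → F) :=
        (gmap g).toLinearMap ∘ₗ ((LinearMap.id : L →ₗ[L] L).smulRight ((gmap g).symm v)).restrictScalars F
      have hL : ∀ a, Lm a = gmap g (a • (gmap g).symm v) := fun a => rfl
      have hle : LinearMap.range Lm ≤ (L ∙ v).restrictScalars F := by
        rintro _ ⟨a, rfl⟩
        have := hg a ((gmap g).symm v)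
        rwa [LinearEquiv.apply_symm_apply] at this
      have hker : LinearMap.ker Lm = ⊥ := LinearMap.ker_eq_bot'.2 fun a ha =>
        (smul_eq_zero.1 ((gmap g).map_eq_zero_iff.1 ((hL a).symm.trans ha))).resolve_right
          fun e => hv ((gmap g).symm.map_eq_zero_iff.1 e)
      have heq : LinearMap.range Lm = (L ∙ v).restrictScalars F :=
        Submodule.eq_of_le_of_finrank_eq hle (by
          rw [LinearMap.finrank_range_of_inj (LinearMap.ker_eq_bot.1 hker), ← finrank_lin (F := F) (K := L) hv]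
          rfl)
      obtain ⟨a, ha⟩ := heq.ge (show k • v ∈ (L ∙ v).restrictScalars F from
        Submodule.mem_span_singleton.2 ⟨k, rfl⟩)
      exact Submodule.mem_span_singleton.2 ⟨a, by rw [← ha, hL, LinearEquiv.symm_apply_apply]⟩
    choose θ hθ using hsemi
    have hval : ∀ k : L, ρ (θ k) = (g : Matrix (Fin n) (Fin n) F) * ρ k *
          ((g⁻¹ : GL (Fin n) F) : Matrix (Fin n) (Fin n) F) := fun k => by
      refine Matrix.toLin'.injective (LinearMap.ext fun v => ?_)
      have h := hθ k (((g⁻¹ : GL (Fin n) F) : Matrix (Fin n) (Fin n) F) *ᵥ v)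
      rw [gmap_apply, gmap_apply, hsmul, hsmul, Matrix.mulVec_mulVec v (g : Matrix (Fin n) (Fin n) F),
        Units.mul_inv, Matrix.one_mulVec, Matrix.mulVec_mulVec, Matrix.mulVec_mulVec] at h
      exact h.symm
    have hsur : Function.Surjective θ := Finite.surjective_of_injective fun a b hab => hinj (by
      have := congrArg ρ hab
      rw [hval, hval] at this
      exact g.isUnit.mul_left_cancel ((g⁻¹).isUnit.mul_right_cancel this))
    intro M
    refine ⟨fun hM => ?_, fun hM => ?_⟩
    · obtain ⟨k, rfl⟩ := (hρ M).1 hM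
      exact hval k ▸ hρm _
    · obtain ⟨l, hl⟩ := (hρ _).1 hM
      obtain ⟨a, rfl⟩ := hsur l
      rw [hval] at hl
      exact g.isUnit.mul_left_cancel ((g⁻¹).isUnit.mul_right_cancel hl) ▸ hρm a
  have hback : ∀ g' : (Fin n → F) ≃ₗ[F] (Fin n → F), gmap (gmap.symm g') = g' :=
    fun g' => gmap.apply_symm_apply g'
  refine ⟨fun G hG hnot => ?_, fun c => ?_⟩
  · have hmem : ∀ g', g' ∈ G.map gmap.toMonoidHom ↔ gmap.symm g' ∈ G := fun g' => by
      refine ⟨?_, fun h => ⟨_, h, hback g'⟩⟩
      rintro ⟨g, hg, rfl⟩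
      simpa using hg
    have hin : ∀ g' : (Fin n → F) ≃ₗ[F] (Fin n → F), LinearMap.det g'.toLinearMap = 1 →
        (∀ (k : L) (v : Fin n → F), g' (k • v) ∈ L ∙ g' v) → g' ∈ G.map gmap.toMonoidHom :=
      fun g' hd hp => (hmem g').2 (hG ⟨(hnorm _).2 (by rwa [hback]),
        MonoidHom.mem_ker.2 (Units.ext (by
          show (gmap.symm g' : Matrix (Fin n) (Fin n) F).det = 1
          rw [← gmap_det, hback, hd]))⟩)
    obtain ⟨g₀, hg₀, hg₀N⟩ := Set.not_subset.1 hnot
    have hg₀' := hg₀N
    rw [SetLike.mem_coe, hnorm] at hg₀'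
    push Not at hg₀'
    have O : Over F L (G.map gmap.toMonoidHom) :=
      { lin := fun f hf => hin _ hf fun k v => linear_preserves f k v
        two := htwo
        prime := by rw [hrank]; exact hr
        nospread := ⟨gmap g₀, ⟨g₀, hg₀, rfl⟩, hg₀'⟩ }
    obtain ⟨u₀, φ₀, hu₀, hφ₀, huφ, hT⟩ : ∃ (u : Fin n → F) (φ : Dual F (Fin n → F)),
        u ≠ 0 ∧ φ ≠ 0 ∧ φ u = 0 ∧ TIn (G.map gmap.toMonoidHom) u φ := by
      by_cases h3 : 3 ≤ finrank L (Fin n → F)
      · exact exists_transvection_of_three O h3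
      by_cases hex : r = 2 ∧ Fintype.card F = 2
      · refine exists_transvection_small O (by omega) (by rw [hrank]; exact hex.1) hex.2
          fun g' hp => hin g' ?_ hp
        have h0 : LinearMap.det g'.toLinearMap ≠ 0 := (LinearEquiv.isUnit_det' g').ne_zero
        have h := FiniteField.pow_card_sub_one_eq_one _ h0
        rwa [hex.2, pow_one] at h
      · exact exists_transvection_of_two O (by omega) (by rw [hrank]; exact hex)
    have hn3 : 3 ≤ finrank F (Fin n → F) := by
      rw [Module.finrank_fin_fun]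
      have := hr.two_le
      have := Nat.mul_le_mul_left r htwo
      omega
    have hall := transvections_all O hn3 hu₀ hφ₀ huφ hT
    intro M hM
    have hMd : (M : Matrix (Fin n) (Fin n) F).det = 1 := by
      simpa using congrArg Units.val (MonoidHom.mem_ker.1 hM)
    let T : Subgroup (Matrix.SpecialLinearGroup (Fin n) F) :=
      G.comap (Matrix.SpecialLinearGroup.toGL : Matrix.SpecialLinearGroup (Fin n) F →* GL (Fin n) F)
    have hT : T = ⊤ := by
      rw [eq_top_iff, ← CfsgLib.StSL.closure_transvection_eq_top (K := F) (n := n) (by have := hr.two_le; omega),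
        Subgroup.closure_le]
      rintro _ ⟨i, j, hij, c, rfl⟩
      obtain ⟨g', hg', hg'x⟩ := hall (Pi.single i 1) (c • LinearMap.proj j)
        (by simp) (by simp [hij])
      show Matrix.SpecialLinearGroup.toGL _ ∈ G
      rw [hmem] at hg'
      convert hg' using 1
      refine gmap.injective ?_
      rw [hback]
      refine LinearEquiv.ext fun x => ?_
      rw [hg'x, gmap_apply]
      show Matrix.transvection i j c *ᵥ x = _
      rw [Matrix.transvection, Matrix.add_mulVec, Matrix.one_mulVec, Matrix.single_mulVec]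
      congr 1
      funext l
      simp [Pi.single_apply, Function.update_apply]
    obtain ⟨Ms, hMs⟩ : ∃ Ms : Matrix.SpecialLinearGroup (Fin n) F, Ms.1 = (M : Matrix (Fin n) (Fin n) F) :=
      ⟨⟨_, hMd⟩, rfl⟩
    have : Ms ∈ T := hT ▸ Subgroup.mem_top _
    convert (Subgroup.mem_comap.1 this) using 1
    exact Units.ext hMs.symm
  · obtain ⟨k, hk⟩ := FiniteField.unitsMap_norm_surjective (K := F) (K' := L) c
    haveI : Nontrivial (Fin n → F) := Module.nontrivial_of_finrank_pos (R := L) (by omega)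
    obtain ⟨v, hv⟩ := exists_ne (0 : Fin n → F)
    obtain ⟨π, -, hπv⟩ := exists_functional_one (K := L) (P := (⊥ : Submodule L (Fin n → F)))
      (x := v) (by simpa using hv)
    have hb : Function.Bijective (LinearMap.transvection π (((k : L) - 1) • v)) :=
      (Module.End.isUnit_iff _).1 ((LinearMap.isUnit_iff_isUnit_det _).2 (by
        rw [det_diag π hπv]; exact k.isUnit))
    obtain ⟨f, hf⟩ : ∃ f : (Fin n → F) ≃ₗ[L] (Fin n → F),
        f.toLinearMap = LinearMap.transvection π (((k : L) - 1) • v) :=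
      ⟨LinearEquiv.ofBijective _ hb, rfl⟩
    refine ⟨gmap.symm (f.restrictScalars F), (hnorm _).2 (by
      rw [hback]; exact linear_preserves f), Units.ext ?_⟩
    show (gmap.symm (f.restrictScalars F) : Matrix (Fin n) (Fin n) F).det = _
    rw [← gmap_det, hback, show (f.restrictScalars F).toLinearMap = f.toLinearMap.restrictScalars F
      from rfl, LinearMap.det_restrictScalars, hf, det_diag π hπv, ← hk]
    rfl

/-- An overgroup of the normaliser of an extension field outside it contains `SL_n`; also every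
determinant is attained on the normaliser. -/
theorem normalizer_over {r : ℕ} (hr : r.Prime) (hrn : r ∣ n) (hlt : r < n)
    {K : Subalgebra F (Matrix (Fin n) (Fin n) F)} (hK : Cfsg.Geo.IsFieldSubalgebra r K) :
    (∀ G : Subgroup (GL (Fin n) F),
      Cfsg.Geo.subalgebraNormalizer K ⊓ Cfsg.Geo.specialLinear (Fin n) F ≤ G →
      ¬ G ≤ Cfsg.Geo.subalgebraNormalizer K → Cfsg.Geo.specialLinear (Fin n) F ≤ G) ∧
    ∀ c : Fˣ, ∃ g ∈ Cfsg.Geo.subalgebraNormalizer K, Matrix.GeneralLinearGroup.det g = c := by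
  letI : Field ↥K := (CfsgLib.MaxSub.Elusive.isField_of_fieldSubalgebra hK (by omega)).toField
  exact normalizer_over_of (L := ↥K) hr hrn hlt K.val
    (fun M => ⟨fun h => ⟨⟨M, h⟩, rfl⟩, fun ⟨l, hl⟩ => hl ▸ l.2⟩) Subtype.val_injective hK.finrank_eq

/-- The normaliser of an extension field of prime degree is maximal. -/
theorem normalizer_maximal {r : ℕ} (hr : r.Prime) (hrn : r ∣ n) (hlt : r < n)
    {K : Subalgebra F (Matrix (Fin n) (Fin n) F)} (hK : Cfsg.Geo.IsFieldSubalgebra r K) :
    IsCoatom (Cfsg.Geo.subalgebraNormalizer K) ∧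
      Cfsg.Geo.IsMaximalIn (Cfsg.Geo.specialLinear (Fin n) F)
        (Cfsg.Geo.subalgebraNormalizer K ⊓ Cfsg.Geo.specialLinear (Fin n) F) := by
  obtain ⟨hover, hdet⟩ := normalizer_over hr hrn hlt hK
  have hnot : ¬ Cfsg.Geo.specialLinear (Fin n) F ≤ Cfsg.Geo.subalgebraNormalizer K :=
    CfsgLib.Aschbacher.not_le_subalgebraNormalizer hK hr.one_lt (by
      rw [Fintype.card_fin]; have := hr.two_le; omega)
  refine ⟨⟨fun e => hnot (e ▸ le_top), fun G hG => ?_⟩,
    lt_of_le_of_ne inf_le_right fun e => hnot (e ▸ inf_le_left), fun G hG hGS => ?_⟩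
  · refine eq_top_iff.2 fun g _ => ?_
    obtain ⟨h, hh, hhd⟩ := hdet (Matrix.GeneralLinearGroup.det g)
    have hS := hover G (inf_le_left.trans hG.le) hG.not_ge
    have : g * h⁻¹ ∈ G := hS (MonoidHom.mem_ker.2 (by rw [map_mul, map_inv, hhd, mul_inv_cancel]))
    simpa using G.mul_mem this (hG.le hh)
  · by_cases h : G ≤ Cfsg.Geo.subalgebraNormalizer K
    · exact Or.inl (le_antisymm (le_inf h hGS) hG)
    · exact Or.inr (le_antisymm hGS (hover G hG h))

end CfsgLib.MaxSub.ExtLin
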