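import Cfsg.Agent.Lib.MaxSub.ExtLin.Trans
import Mathlib.FieldTheory.Minpoly.Field

/-!
An overgroup contains a transvection over the ground field, hence all of them.
-/

set_option autoImplicit false

namespace CfsgLib.MaxSub.ExtLin

open Module

variable {F K V : Type*} [Field F] [Field K] [Algebra F K] [AddCommGroup V] [Module F V]
  [Module K V] [IsScalarTower F K V]

/-- `1 + X` lies in the group. -/
def UIn (G : Subgroup (V ≃ₗ[F] V)) (X : V →ₗ[F] V) : Prop := ∃ g ∈ G, ∀ x, g x = x + X x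

/-- The transvection of a vector and a functional lies in the group. -/
def TIn (G : Subgroup (V ≃ₗ[F] V)) (u : V) (φ : Dual F V) : Prop := UIn G (φ.smulRight u)

variable {G : Subgroup (V ≃ₗ[F] V)}

theorem UIn.mul {X Y : V →ₗ[F] V} (hX : UIn G X) (hY : UIn G Y) : UIn G (X + Y + X ∘ₗ Y) := by
  obtain ⟨g, hg, hgx⟩ := hX
  obtain ⟨h, hh, hhx⟩ := hY
  refine ⟨g * h, mul_mem hg hh, fun x => ?_⟩
  show g (h x) = _
  rw [hhx, hgx, map_add]
  simp only [LinearMap.add_apply, LinearMap.comp_apply]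
  abel

theorem UIn.neg {X : V →ₗ[F] V} (hX : UIn G X) (h : ∀ x, X (X x) = 0) : UIn G (-X) := by
  obtain ⟨g, hg, hgx⟩ := hX
  refine ⟨g⁻¹, inv_mem hg, fun x => g.injective ?_⟩
  show g (g.symm x) = _
  rw [g.apply_symm_apply, hgx, LinearMap.neg_apply, map_add, map_neg, h]
  abel

theorem UIn.conj {X : V →ₗ[F] V} (hX : UIn G X) {g : V ≃ₗ[F] V} (hg : g ∈ G) :
    UIn G (g.toLinearMap ∘ₗ X ∘ₗ g.symm.toLinearMap) := by
  obtain ⟨h, hh, hhx⟩ := hX
  refine ⟨g * h * g⁻¹, mul_mem (mul_mem hg hh) (inv_mem hg), fun x => ?_⟩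
  show g (h (g.symm x)) = _
  rw [hhx, map_add, g.apply_symm_apply]
  rfl

theorem UIn.commutator {X Y : V →ₗ[F] V} (hX : UIn G X) (hY : UIn G Y) (hXX : ∀ x, X (X x) = 0)
    (hYY : ∀ x, Y (Y x) = 0) (hYX : ∀ x, Y (X x) = 0) : UIn G (X ∘ₗ Y) := by
  obtain ⟨g, hg, hgx⟩ := (hX.mul hY).mul ((hX.neg hXX).mul (hY.neg hYY))
  refine ⟨g, hg, fun x => ?_⟩
  rw [hgx]
  simp only [LinearMap.add_apply, LinearMap.comp_apply, LinearMap.neg_apply, map_add, map_neg, hXX,
    hYY, hYX, map_zero]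
  abel

omit [Algebra F K] [Module K V] [IsScalarTower F K V] in
theorem exists_hyper [FiniteDimensional F V] {L R : Submodule F V} (hR : R < L) :
    ∃ (D : Submodule F V) (l : V), R ≤ D ∧ D ≤ L ∧ L ≤ D ⊔ F ∙ l ∧
      finrank F D + 1 = finrank F L := by
  obtain ⟨z, hz, hzR⟩ := SetLike.exists_of_lt hR
  obtain ⟨f, hfR, hfz⟩ := exists_functional_one (K := F) hzR
  have hle : L ≤ L ⊓ LinearMap.ker f ⊔ F ∙ z := fun x hx =>
    Submodule.mem_sup.2 ⟨x - f x • z, ⟨L.sub_mem hx (L.smul_mem _ hz), by simp [hfz]⟩, f x • z,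
      Submodule.smul_mem _ _ (Submodule.mem_span_singleton_self z), sub_add_cancel _ _⟩
  refine ⟨L ⊓ LinearMap.ker f, z, le_inf hR.le fun r hr => hfR r hr, inf_le_left, hle, ?_⟩
  have h1 := (Submodule.finrank_mono hle).trans (Submodule.finrank_add_le_finrank_add_finrank _ _)
  have h2 : L ⊓ LinearMap.ker f < L := lt_of_le_of_ne inf_le_left fun e => by
    have : z ∈ LinearMap.ker f := (e.ge hz).2
    rw [LinearMap.mem_ker, hfz] at this
    exact one_ne_zero this
  have h3 := Submodule.finrank_lt_finrank_of_lt h2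
  rw [finrank_span_singleton fun e : z = 0 => hzR (e ▸ R.zero_mem)] at h1
  omega

variable [Fintype F] [FiniteDimensional F V] [FiniteDimensional F K]

/-- A unipotent element with a smaller kernel outside `D` yields a transvection. -/
theorem lower (O : Over F K G) {v : V} (hv : v ≠ 0) {X : V →ₗ[F] V} (hX : UIn G X)
    (hrange : ∀ x, X x ∈ Lin F K v) (hker : ∀ x ∈ Lin F K v, X x = 0) {w : V} (hw : X w ≠ 0)
    {D : Submodule F V} (hDL : D ≤ Lin F K v) (hD : finrank F D + 1 = finrank F K)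
    (hψ : ∀ g ∈ G, (∀ d ∈ D, g.symm d ∈ Lin F K v) →
      ∃ ψ : Dual K V, ψ v = 0 ∧ ψ ≠ 0 ∧ ∀ x, ψ (g.symm (X x)) = 0) :
    ∃ (u : V) (φ : Dual F V), u ≠ 0 ∧ φ ≠ 0 ∧ φ u = 0 ∧ TIn G u φ := by
  let b := Module.finBasisOfFinrankEq F (Lin F K v) ((finrank_lin hv).trans hD.symm)
  let bD := Module.finBasis F D
  have hbD : LinearIndependent F fun i => (bD i : V) := bD.linearIndependent.map' _ D.ker_subtype
  have hy : LinearIndependent F (Fin.snoc (fun i => (bD i : V)) w : Fin (finrank F D + 1) → V) := by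
    refine linearIndependent_finSnoc.2 ⟨hbD, fun h => hw (hker w (hDL ?_))⟩
    rwa [span_basis bD] at h
  obtain ⟨g, hg, hgi⟩ := move ((below_degree O).mono hD.le) (fun i => (b i : V)) _
    (b.linearIndependent.map' _ (Lin F K v).ker_subtype) hy
  have hgD : ∀ d ∈ D, g.symm d ∈ Lin F K v := by
    have : D ≤ (Lin F K v).map g.toLinearMap := by
      conv_lhs => rw [← span_basis bD]
      refine Submodule.span_le.2 ?_
      rintro _ ⟨i, rfl⟩
      exact ⟨b i.castSucc, (b _).2, by show g _ = _; rw [hgi, Fin.snoc_castSucc]⟩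
    intro d hd
    obtain ⟨l, hl, rfl⟩ := this hd
    simpa using hl
  have hgL : ∀ l ∈ Lin F K v, g l ∈ D ⊔ F ∙ w := by
    have : Lin F K v ≤ (D ⊔ F ∙ w).comap g.toLinearMap := by
      conv_lhs => rw [← span_basis b]
      refine Submodule.span_le.2 ?_
      rintro _ ⟨i, rfl⟩
      show g (b i : V) ∈ D ⊔ F ∙ w
      rw [hgi]
      induction i using Fin.lastCases with
      | last => rw [Fin.snoc_last]; exact Submodule.mem_sup_right (Submodule.mem_span_singleton_self w)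
      | cast j => rw [Fin.snoc_castSucc]; exact Submodule.mem_sup_left (bD j).2
    exact fun l hl => this hl
  obtain ⟨ψ, hψv, hψ0, hψX⟩ := hψ g hg hgD
  have hU : UIn G ((ψ.smulRight v).restrictScalars F) :=
    ⟨_, tr_mem O ψ hψv, fun x => LinearEquiv.transvection.apply hψv x⟩
  obtain ⟨Y, hY, hYv⟩ : ∃ Y, UIn G Y ∧ ∀ x, Y x = g (ψ (g.symm x) • v) := ⟨_, hU.conj hg, fun _ => rfl⟩
  have hXX : ∀ x, X (X x) = 0 := fun x => hker _ (hrange x)
  have hYY : ∀ x, Y (Y x) = 0 := fun x => by simp [hYv, hψv]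
  have hYX : ∀ x, Y (X x) = 0 := fun x => by simp [hYv, hψX]
  have hspan : ∀ x, ∃ a : F, a • X w = X (Y x) := fun x => by
    have h : Y x ∈ D ⊔ F ∙ w := hYv x ▸ hgL _ (Submodule.mem_span_singleton.2 ⟨_, rfl⟩)
    obtain ⟨d, hd, z, hz, he⟩ := Submodule.mem_sup.1 h
    obtain ⟨a, rfl⟩ := Submodule.mem_span_singleton.1 hz
    exact ⟨a, by rw [← he, map_add, map_smul, hker d (hDL hd), zero_add]⟩
  obtain ⟨f, -, hf⟩ := exists_functional_one (K := F) (P := (⊥ : Submodule F V))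
    (x := X w) (by rwa [Submodule.mem_bot])
  have heq : (f ∘ₗ X ∘ₗ Y).smulRight (X w) = X ∘ₗ Y := LinearMap.ext fun x => by
    obtain ⟨a, ha⟩ := hspan x
    simp [← ha, hf]
  refine ⟨X w, f ∘ₗ X ∘ₗ Y, hw, fun h0 => ?_, by simp [hYX], ?_⟩
  · obtain ⟨z, hz⟩ : ∃ z, ψ z ≠ 0 := by
      by_contra hc
      push Not at hc
      exact hψ0 (LinearMap.ext hc)
    obtain ⟨k, hk⟩ := Submodule.mem_span_singleton.1
      (show (b (Fin.last _) : V) ∈ K ∙ v from (b _).2)
    have h1 : Y (g ((k / ψ z) • z)) = w := by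
      rw [hYv, g.symm_apply_apply, ψ.map_smul, smul_eq_mul, div_mul_cancel₀ k hz, hk, hgi,
        Fin.snoc_last]
    have := congrArg (fun φ : Dual F V => φ (g ((k / ψ z) • z))) h0
    simp [h1, hf] at this
  · show UIn G _
    rw [heq]
    exact hX.commutator hY hXX hYY hYX

theorem exists_notMem_line (O : Over F K G) {v : V} (hv : v ≠ 0) : ∃ x, x ∉ K ∙ v := by
  haveI : Module.Finite K V := Module.Finite.right F K V
  by_contra hc
  push Not at hc
  have := O.two
  rw [← finrank_top K V, ← show K ∙ v = ⊤ from eq_top_iff.2 fun w _ => hc w,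
    finrank_span_singleton hv] at this
  omega

/-- More than two dimensions over the extension field. -/
theorem exists_transvection_of_three (O : Over F K G) (hm : 3 ≤ finrank K V) :
    ∃ (u : V) (φ : Dual F V), u ≠ 0 ∧ φ ≠ 0 ∧ φ u = 0 ∧ TIn G u φ := by
  haveI : Module.Finite K V := Module.Finite.right F K V
  haveI : Nontrivial V := Module.nontrivial_of_finrank_pos (R := K) (by omega)
  obtain ⟨v, hv⟩ := exists_ne (0 : V)
  obtain ⟨w, hw⟩ := exists_notMem_line O hv
  obtain ⟨φ, hφ, hφw⟩ := exists_functional_one hw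
  have hvv : φ v = 0 := hφ v (Submodule.mem_span_singleton_self v)
  have hbot : (⊥ : Submodule F V) < Lin F K v := bot_lt_iff_ne_bot.2 fun e => by
    have := finrank_lin (F := F) (K := K) hv
    rw [e, finrank_bot] at this
    have := O.prime.pos
    omega
  obtain ⟨D, l, -, hDL, hL, hD⟩ := exists_hyper hbot
  rw [finrank_lin hv] at hD
  refine lower O hv (X := (φ.smulRight v).restrictScalars F)
    ⟨_, tr_mem O φ hvv, fun x => LinearEquiv.transvection.apply hvv x⟩
    (fun x => Submodule.mem_span_singleton.2 ⟨φ x, rfl⟩)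
    (fun x hx => by simp [hφ x hx]) (w := w) (by simp [hφw, hv]) hDL hD fun g _ hg => ?_
  obtain ⟨P, hP⟩ : ∃ P, (K ∙ v) ⊔ K ∙ g.symm l = P := ⟨_, rfl⟩
  have hP2 : finrank K P ≤ 2 := by
    have h1 := Submodule.finrank_add_le_finrank_add_finrank (K ∙ v) (K ∙ g.symm l)
    have h2 : finrank K (K ∙ g.symm l) ≤ 1 :=
      (finrank_span_le_card ({g.symm l} : Set V)).trans (by simp)
    rw [finrank_span_singleton hv, hP] at h1
    omega
  obtain ⟨y, hy⟩ : ∃ y, y ∉ P := by
    by_contra hc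
    push Not at hc
    rw [show P = ⊤ from eq_top_iff.2 fun w _ => hc w, finrank_top] at hP2
    omega
  obtain ⟨ψ, hψ, hψy⟩ := exists_functional_one hy
  refine ⟨ψ, hψ v (hP ▸ Submodule.mem_sup_left (Submodule.mem_span_singleton_self v)),
    fun e => by simp [e] at hψy, fun x => hψ _ ?_⟩
  have hle : Lin F K v ≤ (P.restrictScalars F).comap g.symm.toLinearMap :=
    hL.trans (sup_le (fun d hd => hP ▸ Submodule.mem_sup_left (hg d hd))
      ((Submodule.span_singleton_le_iff_mem _ _).2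
        (hP ▸ Submodule.mem_sup_right (Submodule.mem_span_singleton_self _))))
  exact hle (Submodule.mem_span_singleton.2 ⟨φ x, rfl⟩)

/-- An invertible map of the field, fixing one, which is not multiplicative. -/
theorem exists_alpha (hr : 2 ≤ finrank F K) (hex : ¬ (finrank F K = 2 ∧ Fintype.card F = 2)) :
    ∃ α : K ≃ₗ[F] K, α 1 = 1 ∧ ¬ ∀ a b, α (a * b) = α a * α b := by
  classical
  haveI : Finite K := Module.finite_of_finite F
  haveI : Fintype K := Fintype.ofFinite K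
  obtain ⟨P, hP⟩ : ∃ P, F ∙ (1 : K) = P := ⟨_, rfl⟩
  have hPd : finrank F P = 1 := hP ▸ finrank_span_singleton one_ne_zero
  obtain ⟨om, hom⟩ : ∃ om, om ∉ P := by
    by_contra hc
    push Not at hc
    rw [show P = ⊤ from eq_top_iff.2 fun w _ => hc w, finrank_top] at hPd
    omega
  have hint : IsIntegral F om := Algebra.IsIntegral.isIntegral om
  obtain ⟨p, hp⟩ : ∃ p, minpoly F om = p := ⟨_, rfl⟩
  let bad : Finset K := Finset.univ.filter (fun z => z ∈ P) ∪ (p.aroots K).toFinset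
  obtain ⟨eta, heta⟩ : ∃ eta, eta ∉ bad := by
    by_contra hc
    push Not at hc
    have h1 := (Finset.card_le_card (show (Finset.univ : Finset K) ⊆ bad from fun z _ => hc z)).trans
      (Finset.card_union_le _ _)
    have h2 : (Finset.univ.filter (fun z => z ∈ P)).card = Fintype.card F := by
      rw [← Fintype.card_subtype, ← Nat.card_eq_fintype_card,
        Module.natCard_eq_pow_finrank (K := F), Nat.card_eq_fintype_card, hPd, pow_one]
    have h3 : (p.aroots K).toFinset.card ≤ finrank F K := by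
      refine (Multiset.toFinset_card_le _).trans ((Polynomial.card_roots' _).trans ?_)
      rw [Polynomial.natDegree_map, ← hp]
      exact minpoly.natDegree_le om
    rw [Finset.card_univ, ← Nat.card_eq_fintype_card, Module.natCard_eq_pow_finrank (K := F),
      Nat.card_eq_fintype_card, h2] at h1
    obtain ⟨q, hq⟩ : ∃ q, Fintype.card F = q := ⟨_, rfl⟩
    obtain ⟨r, hr'⟩ : ∃ r, finrank F K = r := ⟨_, rfl⟩
    have hq2 : 2 ≤ q := hq ▸ Fintype.one_lt_card
    rw [hr', hq] at h1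
    rw [hr'] at h3
    rw [hq, hr'] at hex
    rw [hr'] at hr
    obtain ⟨j, rfl⟩ : ∃ j, r = j + 1 := ⟨r - 1, by omega⟩
    rw [pow_succ] at h1
    have h5 : j + 1 ≤ 2 ^ j := Nat.lt_two_pow_self
    have h6 : 2 ^ j ≤ q ^ j := Nat.pow_le_pow_left hq2 j
    rcases eq_or_lt_of_le hq2 with rfl | hq3
    · have h7 : 2 ≤ j := by
        by_contra h
        exact hex ⟨by omega, rfl⟩
      have h8 : 2 ^ 2 ≤ 2 ^ j := Nat.pow_le_pow_right (by norm_num) h7
      omega
    · have h9 : q ^ 1 ≤ q ^ j := Nat.pow_le_pow_right (by omega) (by omega)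
      nlinarith
  simp only [bad, Finset.mem_union, Finset.mem_filter, Finset.mem_univ, true_and,
    Multiset.mem_toFinset, not_or] at heta
  obtain ⟨f, hf1, hfo, hfe⟩ : ∃ f : Dual F K, f 1 = 0 ∧ f om = 1 ∧ f eta ≠ 0 := by
    have h1P : (1 : K) ∈ P := hP ▸ Submodule.mem_span_singleton_self 1
    by_cases hmem : eta ∈ P ⊔ F ∙ om
    · obtain ⟨f, hf, hfo⟩ := exists_functional_one (K := F) hom
      refine ⟨f, hf 1 h1P, hfo, fun h0 => heta.1 ?_⟩
      obtain ⟨p', hp', z, hz, he⟩ := Submodule.mem_sup.1 hmem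
      obtain ⟨a, rfl⟩ := Submodule.mem_span_singleton.1 hz
      rw [← he, map_add, map_smul, hf p' hp', hfo, smul_eq_mul, mul_one, zero_add] at h0
      rw [← he, h0, zero_smul, add_zero]
      exact hp'
    · obtain ⟨f, hf, hfo, hfe⟩ := exists_functional (K := F) hom hmem 1 1
      exact ⟨f, hf 1 h1P, hfo, by rw [hfe]; exact one_ne_zero⟩
  have hdet : LinearMap.det (LinearMap.transvection f (eta - om)) ≠ 0 := by
    rw [LinearMap.transvection.det, map_sub, hfo]
    simpa using hfe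
  obtain ⟨α, hα⟩ : ∃ α : K ≃ₗ[F] K, α.toLinearMap = LinearMap.transvection f (eta - om) :=
    ⟨LinearEquiv.ofBijective _ ((Module.End.isUnit_iff _).1
      ((LinearMap.isUnit_iff_isUnit_det _).2 hdet.isUnit)), rfl⟩
  have hα1 : α 1 = 1 := by
    show α.toLinearMap 1 = 1
    simp [hα, LinearMap.transvection.apply, hf1]
  refine ⟨α, hα1, fun hmul => heta.2 ?_⟩
  have hαo : α om = eta := by
    show α.toLinearMap om = eta
    simp [hα, LinearMap.transvection.apply, hfo]
  obtain ⟨φ, hφ⟩ : ∃ φ : K →ₐ[F] K, φ om = eta :=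
    ⟨AlgHom.ofLinearMap α.toLinearMap hα1 hmul, hαo⟩
  rw [Polynomial.mem_aroots, ← hφ, Polynomial.aeval_algHom_apply, ← hp, minpoly.aeval, map_zero]
  exact ⟨minpoly.ne_zero hint, rfl⟩

/-- An element killing a line and a vector outside it yields a transvection. -/
theorem transvection_of_kills (O : Over F K G) (hm : finrank K V = 2) {v : V} (hv : v ≠ 0) {x₀ : V}
    (hx₀ : x₀ ∉ K ∙ v) {X : V →ₗ[F] V} (hX : UIn G X) (hXr : ∀ x, X x ∈ Lin F K v)
    (hXL : ∀ x ∈ Lin F K v, X x = 0) (hX0 : X x₀ = 0) (hXne : X ≠ 0) :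
    ∃ (u : V) (φ : Dual F V), u ≠ 0 ∧ φ ≠ 0 ∧ φ u = 0 ∧ TIn G u φ := by
  haveI : Module.Finite K V := Module.Finite.right F K V
  obtain ⟨π, hπ, hπx⟩ := exists_functional_one hx₀
  have hπv : π v = 0 := hπ v (Submodule.mem_span_singleton_self v)
  obtain ⟨w, hw⟩ : ∃ w, X w ≠ 0 := by
    by_contra hc
    push Not at hc
    exact hXne (LinearMap.ext hc)
  have hlt : LinearMap.range X < Lin F K v := by
    refine lt_of_le_of_ne (by rintro _ ⟨x, rfl⟩; exact hXr x) fun e => ?_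
    have hk : Lin F K v ⊔ F ∙ x₀ ≤ LinearMap.ker X :=
      sup_le (fun x hx => hXL x hx) ((Submodule.span_singleton_le_iff_mem _ _).2 hX0)
    have h1 : Lin F K v < Lin F K v ⊔ F ∙ x₀ := lt_of_le_of_ne le_sup_left fun e' =>
      hx₀ (e'.ge (Submodule.mem_sup_right (Submodule.mem_span_singleton_self x₀)) :)
    have h2 := Submodule.finrank_lt_finrank_of_lt h1
    have h3 := Submodule.finrank_mono hk
    have h4 := X.finrank_range_add_finrank_ker
    rw [e, finrank_lin hv, ← Module.finrank_mul_finrank F K V, hm] at h4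
    rw [finrank_lin hv] at h2
    omega
  obtain ⟨D, -, hRD, hDL, -, hD⟩ := exists_hyper hlt
  rw [finrank_lin hv] at hD
  refine lower O hv hX hXr hXL hw hDL hD fun g' _ hg' =>
    ⟨π, hπv, fun e => by simp [e] at hπx, fun x => hπ _ (hg' _ (hRD ⟨x, rfl⟩))⟩

/-- The action on the quotient is determined by the action on the line. -/
theorem transvection_or_scalar (O : Over F K G) (hm : finrank K V = 2) {v : V} (hv : v ≠ 0)
    {x₀ : V} (hx₀ : x₀ ∉ K ∙ v) {π : Dual K V} (hπ : ∀ p ∈ K ∙ v, π p = 0) (hπx : π x₀ = 1)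
    {g : V ≃ₗ[F] V} (hg : g ∈ G) {α : K ≃ₗ[F] K} (hgk : ∀ k : K, g (k • v) = α k • v) :
    (∃ (u : V) (φ : Dual F V), u ≠ 0 ∧ φ ≠ 0 ∧ φ u = 0 ∧ TIn G u φ) ∨
      ∀ c, ∃ mu : K, ∀ k, α (c * k) = mu * π (g (k • x₀)) := by
  classical
  refine or_iff_not_imp_left.2 fun hno => ?_
  have hπv : π v = 0 := hπ v (Submodule.mem_span_singleton_self v)
  let Xs : K → (V →ₗ[F] V) := fun c => ((c • π).smulRight v).restrictScalars F
  have hXs : ∀ c x, Xs c x = (c * π x) • v := fun c x => rfl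
  have hXsU : ∀ c, UIn G (Xs c) := fun c =>
    ⟨_, tr_mem O (c • π) (c := v) (by simp [hπv]), fun x => LinearEquiv.transvection.apply (by simp [hπv]) x⟩
  have hc : ∀ X : V →ₗ[F] V, UIn G X → (∀ x, X x ∈ Lin F K v) →
      (∀ x ∈ Lin F K v, X x = 0) → X x₀ = 0 → X = 0 := fun X h1 h2 h3 h4 =>
    by_contra fun h5 => hno (transvection_of_kills O hm hv hx₀ h1 h2 h3 h4 h5)
  intro c
  suffices h : ∃ mu : K, ∀ x, g ((c * π (g.symm x)) • v) = (mu * π x) • v by
    obtain ⟨mu, hmu⟩ := h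
    refine ⟨mu, fun k => ?_⟩
    have h := hmu (g (k • x₀))
    rw [g.symm_apply_apply, π.map_smul, hπx, smul_eq_mul, mul_one, hgk] at h
    exact smul_left_injective K hv h
  obtain ⟨mu, hmu⟩ : ∃ mu : K, mu • v = g ((c * π (g.symm x₀)) • v) := ⟨_, (hgk _).symm⟩
  refine ⟨mu, fun x => ?_⟩
  obtain ⟨Y, hY, hYx⟩ : ∃ Y, UIn G Y ∧ ∀ x, Y x = g ((c * π (g.symm x)) • v) :=
    ⟨_, (hXsU c).conj hg, fun _ => rfl⟩
  have hz : ∀ x, (Y + Xs (-mu) + Y ∘ₗ Xs (-mu)) x = Y x - (mu * π x) • v := fun x => by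
    simp only [LinearMap.add_apply, LinearMap.comp_apply, hXs, neg_mul, neg_smul, map_neg]
    rw [hYx ((mu * π x) • v)]
    have : g.symm ((mu * π x) • v) = α.symm (mu * π x) • v := g.injective (by
      rw [g.apply_symm_apply, hgk, α.apply_symm_apply])
    rw [this, π.map_smul, hπv, smul_zero, mul_zero, zero_smul, map_zero]
    abel
  have h0 := hc (Y + Xs (-mu) + Y ∘ₗ Xs (-mu)) (hY.mul (hXsU _))
    (fun x => by
      rw [hz, hYx, hgk]
      exact Submodule.sub_mem _ (Submodule.mem_span_singleton.2 ⟨_, rfl⟩)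
        (Submodule.mem_span_singleton.2 ⟨_, rfl⟩))
    (fun x hx => by
      obtain ⟨k, rfl⟩ := Submodule.mem_span_singleton.1 hx
      rw [hz, hYx]
      have : g.symm (k • v) = α.symm k • v := g.injective (by
        rw [g.apply_symm_apply, hgk, α.apply_symm_apply])
      simp [this, hπv])
    (by rw [hz, hYx, hπx, mul_one, ← hmu, sub_self])
  have := LinearMap.congr_fun h0 x
  rw [hz, hYx, LinearMap.zero_apply, sub_eq_zero] at this
  exact this

/-- Two dimensions over the extension field. -/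
theorem exists_transvection_of_two (O : Over F K G) (hm : finrank K V = 2)
    (hex : ¬ (finrank F K = 2 ∧ Fintype.card F = 2)) :
    ∃ (u : V) (φ : Dual F V), u ≠ 0 ∧ φ ≠ 0 ∧ φ u = 0 ∧ TIn G u φ := by
  haveI : Module.Finite K V := Module.Finite.right F K V
  haveI : Nontrivial V := Module.nontrivial_of_finrank_pos (R := K) (by omega)
  obtain ⟨v, hv⟩ := exists_ne (0 : V)
  obtain ⟨x₀, hx₀⟩ := exists_notMem_line O hv
  obtain ⟨π, hπ, hπx⟩ := exists_functional_one hx₀
  obtain ⟨α, hα1, hαm⟩ := exists_alpha O.prime.two_le hex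
  let T : K →ₗ[F] V := ((LinearMap.id : K →ₗ[K] K).smulRight v).restrictScalars F
  have hTinj : LinearMap.ker T = ⊥ := LinearMap.ker_eq_bot'.2 fun k hk =>
    (smul_eq_zero.1 (hk : k • v = 0)).resolve_right hv
  let b := Module.finBasis F K
  obtain ⟨g, hg, hgb⟩ := move (below_degree O) (fun i => T (b i)) (fun i => T (α (b i)))
    (b.linearIndependent.map' T hTinj)
    ((b.linearIndependent.map' α.toLinearMap α.ker).map' T hTinj)
  have hgk : ∀ k : K, g (k • v) = α k • v := fun k => by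
    have h : g.toLinearMap ∘ₗ T = T ∘ₗ α.toLinearMap := b.ext hgb
    exact LinearMap.congr_fun h k
  rcases transvection_or_scalar O hm hv hx₀ hπ hπx hg hgk with h | h
  · exact h
  exfalso
  choose mu hmul using h
  have hmu1 : mu 1 ≠ 0 := fun e => by
    have := hmul 1 1
    rw [mul_one, hα1, e, zero_mul] at this
    exact one_ne_zero this
  refine hαm fun a c => ?_
  have h1 : π (g (c • x₀)) = α c / mu 1 := by
    rw [eq_div_iff hmu1, mul_comm, ← hmul, one_mul]
  have h2 : α a = mu a * π (g ((1 : K) • x₀)) := by rw [← hmul, mul_one]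
  have h3 : π (g ((1 : K) • x₀)) = 1 / mu 1 := by
    have := hmul 1 1
    rw [mul_one, hα1] at this
    rw [eq_div_iff hmu1, mul_comm, ← this]
  rw [hmul, h1, h2, h3]
  ring

omit [Fintype F] [FiniteDimensional F K] [Module K V] [IsScalarTower F K V] [Algebra F K] in
theorem tin_map {u : V} {φ : Dual F V} (h : TIn G u φ) {g : V ≃ₗ[F] V} (hg : g ∈ G) :
    TIn G (g u) (φ ∘ₗ g.symm.toLinearMap) := by
  have h' := UIn.conj h hg
  have e : g.toLinearMap ∘ₗ φ.smulRight u ∘ₗ g.symm.toLinearMap =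
      (φ ∘ₗ g.symm.toLinearMap).smulRight (g u) := LinearMap.ext fun x => by simp
  rw [TIn, ← e]; exact h'

omit [Fintype F] [FiniteDimensional F K] [FiniteDimensional F V] [Module K V]
  [IsScalarTower F K V] [Algebra F K] in
theorem tin_smul {u : V} {φ : Dual F V} {a : F} (h : TIn G (a • u) φ) : TIn G u (a • φ) := by
  have e : φ.smulRight (a • u) = (a • φ).smulRight u :=
    LinearMap.ext fun x => by simp [smul_smul, mul_comm]
  rw [TIn, ← e]; exact h

/-- One transvection gives them all. -/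
theorem transvections_all (O : Over F K G) (h4 : 3 ≤ finrank F V) {u₀ : V} {φ₀ : Dual F V}
    (hu₀ : u₀ ≠ 0) (hφ₀ : φ₀ ≠ 0) (hu₀φ : φ₀ u₀ = 0) (hT : TIn G u₀ φ₀) :
    ∀ (u : V) (φ : Dual F V), u ≠ 0 → φ u = 0 → TIn G u φ := by
  haveI : Module.Finite K V := Module.Finite.right F K V
  have hb : Below G 2 := (below_degree O).mono O.prime.two_le
  have pairs : ∀ {a b a' b' : V}, a ≠ 0 → b ∉ F ∙ a → a' ≠ 0 → b' ∉ F ∙ a' →
      ∃ g ∈ G, g a = a' ∧ g b = b' := by
    intro a b a' b' ha hb' ha' hb''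
    have li : ∀ {a b : V}, a ≠ 0 → b ∉ F ∙ a → LinearIndependent F ![a, b] := fun ha hb => by
      refine (LinearIndependent.pair_iff' ha).2 fun c hc => hb ?_
      exact Submodule.mem_span_singleton.2 ⟨c, hc⟩
    obtain ⟨g, hg, hgi⟩ := move hb ![a, b] ![a', b'] (li ha hb') (li ha' hb'')
    exact ⟨g, hg, hgi 0, hgi 1⟩
  have hadd : ∀ {u : V} {φ χ : Dual F V}, φ u = 0 → χ u = 0 → TIn G u φ → TIn G u χ →
      TIn G u (φ + χ) := by
    intro u φ χ hφ _ h h'
    have := UIn.mul h h'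
    have e : φ.smulRight u + χ.smulRight u + φ.smulRight u ∘ₗ χ.smulRight u =
        (φ + χ).smulRight u := LinearMap.ext fun x => by simp [add_smul, hφ]
    rw [TIn, ← e]; exact this
  obtain ⟨b₀, hb₀⟩ : ∃ b, φ₀ b ≠ 0 := by
    by_contra hc
    push Not at hc
    exact hφ₀ (LinearMap.ext hc)
  have hb₀u : b₀ ∉ F ∙ u₀ := fun h => hb₀ (by
    obtain ⟨c, rfl⟩ := Submodule.mem_span_singleton.1 h
    simp [hu₀φ])
  obtain ⟨a₀, ha₀, ha₀u⟩ : ∃ a, φ₀ a = 0 ∧ a ∉ F ∙ u₀ := by
    by_contra hc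
    push Not at hc
    have h1 := Submodule.finrank_mono (show LinearMap.ker φ₀ ≤ F ∙ u₀ from fun a ha => hc a ha)
    rw [finrank_span_singleton hu₀] at h1
    have h2 := φ₀.finrank_range_add_finrank_ker
    have h3 := (LinearMap.range φ₀).finrank_le
    rw [Module.finrank_self] at h3
    omega
  -- all values are attained
  have hval : ∀ (a b : V), a ≠ 0 → b ∉ F ∙ a → ∀ c : F,
      ∃ φ, φ a = 0 ∧ TIn G a φ ∧ φ b = c := by
    intro a b ha hb' c
    rcases eq_or_ne c 0 with rfl | hc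
    · refine ⟨0, rfl, ⟨1, one_mem G, fun x => by simp⟩, rfl⟩
    obtain ⟨mu, hmu⟩ : ∃ mu, c / φ₀ b₀ = mu := ⟨_, rfl⟩
    have hmu0 : mu ≠ 0 := hmu ▸ div_ne_zero hc hb₀
    obtain ⟨g, hg, hga, hgb⟩ := pairs hu₀ hb₀u (smul_ne_zero hmu0 ha)
      (b' := b) (by rwa [Submodule.span_singleton_smul_eq hmu0.isUnit])
    have h1 := tin_map hT hg
    rw [hga] at h1
    refine ⟨_, ?_, tin_smul h1, ?_⟩
    · have : φ₀ (g.symm (mu • a)) = 0 := by rw [← hga, g.symm_apply_apply, hu₀φ]
      simpa using this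
    · simp only [LinearMap.smul_apply, LinearMap.comp_apply, LinearEquiv.coe_coe, smul_eq_mul]
      rw [← hgb, g.symm_apply_apply, ← hmu, div_mul_cancel₀ c hb₀]
  have htransfer : ∀ {a b : V}, a ≠ 0 → b ∉ F ∙ a → ∀ {χ : Dual F V}, χ b = 0 → χ a = 0 →
      TIn G b χ → ∀ c : F, TIn G a (c • χ) := by
    intro a b ha hb' χ hχb hχa h c
    obtain ⟨φ, hφa, hφ, hφb⟩ := hval a b ha hb' c
    have hcm := UIn.commutator hφ h (fun x => by simp [hφa]) (fun x => by simp [hχb])
      (fun x => by simp [hχa])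
    have e : φ.smulRight a ∘ₗ χ.smulRight b = (c • χ).smulRight a :=
      LinearMap.ext fun x => by simp [hφb, mul_comm]
    rw [TIn, ← e]; exact hcm
  intro u φ hu hφu
  let M : Submodule F (Dual F V) :=
    { carrier := {χ | χ u = 0 ∧ ∀ c : F, TIn G u (c • χ)}
      zero_mem' := ⟨rfl, fun c => ⟨1, one_mem G, fun x => by simp⟩⟩
      add_mem' := fun {χ χ'} h h' => ⟨by simp [h.1, h'.1], fun c => by
        rw [smul_add]
        exact hadd (by simp [h.1]) (by simp [h'.1]) (h.2 c) (h'.2 c)⟩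
      smul_mem' := fun a χ h => ⟨by simp [h.1], fun c => by rw [smul_smul]; exact h.2 _⟩ }
  have hZ : M.dualCoannihilator ≤ F ∙ u := by
    intro z hz
    by_contra hzu
    obtain ⟨b, hb'⟩ : ∃ b, b ∉ F ∙ u := ⟨z, hzu⟩
    have hub : u ∉ F ∙ b := fun h => by
      obtain ⟨c, rfl⟩ := Submodule.mem_span_singleton.1 h
      exact hb' (Submodule.mem_span_singleton.2 ⟨c⁻¹,
        inv_smul_smul₀ (fun e => hu (by simp [e])) b⟩)
    obtain ⟨g, hg, hgu, hga⟩ := pairs hu₀ ha₀u (a' := b)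
      (fun e => hb' (e ▸ Submodule.zero_mem _)) hub
    have hχ := tin_map hT hg
    rw [hgu] at hχ
    have hχb : (φ₀ ∘ₗ g.symm.toLinearMap) b = 0 := by simp [← hgu, hu₀φ]
    have hχu : (φ₀ ∘ₗ g.symm.toLinearMap) u = 0 := by simp [← hga, ha₀]
    have hχM : φ₀ ∘ₗ g.symm.toLinearMap ∈ M := ⟨hχu, htransfer hu hb' hχb hχu hχ⟩
    obtain ⟨z', hz'⟩ : ∃ z', (φ₀ ∘ₗ g.symm.toLinearMap) z' ≠ 0 := ⟨g b₀, by simp [hb₀]⟩
    have hz'u : z' ∉ F ∙ u := fun h => hz' (by
      obtain ⟨c, rfl⟩ := Submodule.mem_span_singleton.1 h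
      rw [map_smul, hχu, smul_zero])
    obtain ⟨t, ht, htu, htz⟩ := pairs hu hz'u hu hzu
    refine hz' ?_
    have hM : (φ₀ ∘ₗ g.symm.toLinearMap) ∘ₗ t.symm.toLinearMap ∈ M := by
      refine ⟨?_, fun c => ?_⟩
      · rw [LinearMap.comp_apply, LinearEquiv.coe_coe, ← htu, t.symm_apply_apply]
        exact hχu
      · have := tin_map (hχM.2 c) ht
        rw [htu] at this
        exact this
    have h0 := (Submodule.mem_dualCoannihilator z).1 hz _ hM
    rwa [LinearMap.comp_apply, LinearEquiv.coe_coe, ← htz, t.symm_apply_apply] at h0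
  have hmem : φ ∈ M := by
    rw [← Subspace.dualCoannihilator_dualAnnihilator_eq (W := M)]
    refine (Submodule.mem_dualAnnihilator φ).2 fun z hz => ?_
    obtain ⟨c, rfl⟩ := Submodule.mem_span_singleton.1 (hZ hz)
    simp [hφu]
  simpa using hmem.2 1

end CfsgLib.MaxSub.ExtLin
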