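import Cfsg.Agent.Lib.MaxSub.ExtLin.Basic

/-!
Intersections of the images of the lines over the extension field.
-/

set_option autoImplicit false

namespace CfsgLib.MaxSub.ExtLin

open Module

variable {F K V : Type*} [Field F] [Field K] [Algebra F K] [AddCommGroup V] [Module F V]
  [Module K V] [IsScalarTower F K V] {G : Subgroup (V ≃ₗ[F] V)}

variable (G K) in
/-- The intersection of the members containing `U`. -/
def cl (U : Submodule F V) : Submodule F V := sInf {M | Mem G K M ∧ U ≤ M}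

theorem mem_cl {U : Submodule F V} {z : V} :
    z ∈ cl K G U ↔ ∀ M, Mem G K M → U ≤ M → z ∈ M := by
  simp only [cl, Submodule.mem_sInf, Set.mem_ofPred_eq, and_imp]

theorem le_cl (U : Submodule F V) : U ≤ cl K G U := fun _ hz => mem_cl.2 fun _ _ h => h hz

theorem cl_le {U M : Submodule F V} (hM : Mem G K M) (h : U ≤ M) : cl K G U ≤ M :=
  fun _ hz => mem_cl.1 hz M hM h

theorem cl_mono {U U' : Submodule F V} (h : U' ≤ cl K G U) : cl K G U' ≤ cl K G U :=
  fun _ hz => mem_cl.2 fun M hM hUM => mem_cl.1 hz M hM (h.trans (cl_le hM hUM))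

theorem cl_map_le (U : Submodule F V) {g : V ≃ₗ[F] V} (hg : g ∈ G) :
    (cl K G U).map g.toLinearMap ≤ cl K G (U.map g.toLinearMap) := by
  rintro _ ⟨z, hz, rfl⟩
  refine mem_cl.2 fun M hM hUM => ?_
  have := mem_cl.1 hz (M.map g.symm.toLinearMap) (hM.map (inv_mem hg)) fun u hu =>
    ⟨g u, hUM ⟨u, hu, rfl⟩, g.symm_apply_apply u⟩
  obtain ⟨w, hw, rfl⟩ := this
  simpa using hw

theorem cl_map (U : Submodule F V) {g : V ≃ₗ[F] V} (hg : g ∈ G) :
    cl K G (U.map g.toLinearMap) = (cl K G U).map g.toLinearMap := by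
  refine le_antisymm (fun z hz => ?_) (cl_map_le U hg)
  have h := cl_map_le (K := K) (U.map g.toLinearMap) (inv_mem hg) ⟨z, hz, rfl⟩
  rw [← Submodule.map_comp,
    show (g⁻¹ : V ≃ₗ[F] V).toLinearMap ∘ₗ g.toLinearMap = LinearMap.id from
      LinearMap.ext fun v => g.symm_apply_apply v, Submodule.map_id] at h
  exact ⟨_, h, g.apply_symm_apply z⟩

theorem dvd_of_sub_dvd {q a t e : ℕ} (hq : 2 ≤ q) (h : q ^ (a + t) - q ^ a ∣ q ^ (a + e) - q ^ a) :
    t ∣ e := by
  rw [pow_add, pow_add, ← Nat.mul_sub_one, ← Nat.mul_sub_one] at h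
  have h1 := Nat.dvd_of_mul_dvd_mul_left (pow_pos (by omega) a) h
  have h2 := Nat.pow_sub_one_gcd_pow_sub_one q t e
  rw [Nat.gcd_eq_left h1] at h2
  have h3 : q ^ t = q ^ Nat.gcd t e := by
    have := Nat.one_le_pow t q (by omega)
    have := Nat.one_le_pow (Nat.gcd t e) q (by omega)
    omega
  rw [Nat.pow_right_injective hq h3]
  exact Nat.gcd_dvd_right t e

variable [Fintype F] [FiniteDimensional F V]

open scoped Classical in
/-- A subspace is cut into the closures of the subspaces one larger than `U₀`. -/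
theorem partition {s d : ℕ} (hb : Below G s) {U₀ : Submodule F V} (hU₀ : finrank F U₀ + 1 = s)
    (hd : ∀ W : Submodule F V, finrank F W = s → finrank F (cl K G W) = d) {E : Submodule F V}
    (hU₀E : U₀ ≤ E) (hE : ∀ x ∈ E, x ∉ U₀ → cl K G (U₀ ⊔ F ∙ x) ≤ E) :
    (Fintype.card F) ^ d - (Fintype.card F) ^ finrank F U₀ ∣
      (Fintype.card F) ^ finrank F E - (Fintype.card F) ^ finrank F U₀ := by
  haveI : Finite V := Module.finite_of_finite F
  haveI : Fintype V := Fintype.ofFinite V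
  have hcard : ∀ W : Submodule F V, (Finset.univ.filter (· ∈ W)).card =
      Fintype.card F ^ finrank F W := fun W => by
    rw [← Fintype.card_subtype, ← Nat.card_eq_fintype_card, Module.natCard_eq_pow_finrank (K := F),
      Nat.card_eq_fintype_card]
  have hdim : ∀ x, x ∉ U₀ → finrank F ↥(U₀ ⊔ F ∙ x) = s := fun x hx => by
    have h1 := Submodule.finrank_add_le_finrank_add_finrank U₀ (F ∙ x)
    have h2 : U₀ < U₀ ⊔ F ∙ x := lt_of_le_of_ne le_sup_left fun e =>
      hx (e ▸ Submodule.mem_sup_right (Submodule.mem_span_singleton_self x))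
    have h3 := Submodule.finrank_lt_finrank_of_lt h2
    rw [finrank_span_singleton fun e : x = 0 => hx (e ▸ U₀.zero_mem)] at h1
    omega
  let S : Finset V := Finset.univ.filter fun x => x ∈ E ∧ x ∉ U₀
  let f : V → Submodule F V := fun x => cl K G (U₀ ⊔ F ∙ x)
  have hS : S.card = Fintype.card F ^ finrank F E - Fintype.card F ^ finrank F U₀ := by
    rw [← hcard, ← hcard, ← Finset.card_sdiff_of_subset (fun x => by simpa using @hU₀E x)]
    congr 1
    ext x
    simp [S]
  rw [← hS, Finset.card_eq_sum_card_image f S]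
  refine Finset.dvd_sum fun D hD => ?_
  obtain ⟨x, hx, rfl⟩ := Finset.mem_image.1 hD
  simp only [S, Finset.mem_filter, Finset.mem_univ, true_and] at hx
  have hU₀D : U₀ ≤ f x := le_sup_left.trans (le_cl _)
  have hfib : S.filter (fun y => f y = f x) =
      Finset.univ.filter (· ∈ f x) \ Finset.univ.filter (· ∈ U₀) := by
    ext y
    simp only [S, Finset.mem_filter, Finset.mem_univ, true_and, Finset.mem_sdiff]
    refine ⟨fun ⟨⟨_, hy⟩, he⟩ => ⟨he ▸ le_cl _ (Submodule.mem_sup_right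
      (Submodule.mem_span_singleton_self y)), hy⟩, fun ⟨hyD, hy⟩ => ⟨⟨hE x hx.1 hx.2 hyD, hy⟩, ?_⟩⟩
    refine Submodule.eq_of_le_of_finrank_eq
      (cl_mono (sup_le hU₀D ((Submodule.span_singleton_le_iff_mem _ _).2 hyD))) ?_
    rw [hd _ (hdim y hy), hd _ (hdim x hx.2)]
  rw [hfib, Finset.card_sdiff_of_subset (fun z => by simpa using @hU₀D z), hcard, hcard,
    hd _ (hdim x hx.2)]

/-- The closure of a subspace of a line is itself. -/
theorem cl_eq_self (O : Over F K G) {s : ℕ} (hb : Below G s) (hs : 0 < s) (hsr : s < finrank F K)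
    {v : V} (hv : v ≠ 0) {U : Submodule F V} (hUL : U ≤ Lin F K v) (hU : finrank F U = s) :
    cl K G U = U := by
  haveI : Module.Finite K V := Module.Finite.right F K V
  obtain ⟨r, hr⟩ : ∃ r, finrank F K = r := ⟨_, rfl⟩
  have hrp : r.Prime := hr ▸ O.prime
  have hq := Fintype.one_lt_card (α := F)
  obtain ⟨d, hd⟩ : ∃ d, finrank F (cl K G U) = d := ⟨_, rfl⟩
  have hdU : s ≤ d := hU ▸ hd ▸ Submodule.finrank_mono (le_cl U)
  have hDL : cl K G U ≤ Lin F K v := cl_le (mem_lin hv) hUL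
  have hdr : d ≤ r := hd ▸ hr ▸ finrank_lin (F := F) (K := K) hv ▸ Submodule.finrank_mono hDL
  have hall : ∀ W : Submodule F V, finrank F W = s → finrank F (cl K G W) = d := fun W hW => by
    obtain ⟨g, hg, rfl⟩ := map_subspace hb le_rfl hU hW
    rw [cl_map U hg, LinearEquiv.finrank_map_eq, hd]
  obtain ⟨U₀, hU₀U, hU₀⟩ : ∃ U₀, U₀ ≤ U ∧ finrank F U₀ + 1 = s := by
    let b := Module.finBasisOfFinrankEq F U (hU.trans (Nat.sub_add_cancel hs).symm)
    refine ⟨Submodule.span F (Set.range fun i : Fin (s - 1) => (b i.castSucc : V)),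
      Submodule.span_le.2 (by rintro _ ⟨i, rfl⟩; exact (b _).2), ?_⟩
    rw [finrank_span_eq_card (b := fun i : Fin (s - 1) => (b i.castSucc : V))
      ((b.linearIndependent.map' U.subtype U.ker_subtype).comp _ (Fin.castSucc_injective _)),
      Fintype.card_fin]
    omega
  have hU₀L : U₀ ≤ Lin F K v := hU₀U.trans hUL
  obtain ⟨x₀, hx₀⟩ : ∃ x₀, x₀ ∉ K ∙ v := by
    by_contra hc
    push Not at hc
    have := O.two
    rw [← finrank_top K V, ← show K ∙ v = ⊤ from eq_top_iff.2 fun w _ => hc w,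
      finrank_span_singleton hv] at this
    omega
  obtain ⟨P, hP⟩ : ∃ P, (K ∙ v) ⊔ K ∙ x₀ = P := ⟨_, rfl⟩
  have hPd : finrank K P = 2 := by
    have hx0 : x₀ ≠ 0 := fun e => hx₀ (e ▸ Submodule.zero_mem _)
    have h1 := Submodule.finrank_add_le_finrank_add_finrank (K ∙ v) (K ∙ x₀)
    have h2 : K ∙ v < (K ∙ v) ⊔ K ∙ x₀ := lt_of_le_of_ne le_sup_left fun e =>
      hx₀ (e ▸ Submodule.mem_sup_right (Submodule.mem_span_singleton_self _))
    have h3 := Submodule.finrank_lt_finrank_of_lt h2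
    rw [finrank_span_singleton hv, finrank_span_singleton hx0, hP] at h1
    rw [finrank_span_singleton hv, hP] at h3
    omega
  have hLP : Lin F K v ≤ P.restrictScalars F := fun z hz => hP ▸ Submodule.mem_sup_left hz
  have hE : ∀ x ∈ P.restrictScalars F, x ∉ U₀ → cl K G (U₀ ⊔ F ∙ x) ≤ P.restrictScalars F := by
    intro x hx hxU p hp
    by_contra hpP
    obtain ⟨φ, hφP, hφp⟩ := exists_functional_one (P := P) (x := p) hpP
    have hW : ∀ u ∈ U₀ ⊔ F ∙ x, φ u = 0 := fun u hu => hφP u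
      (sup_le (hU₀L.trans hLP) ((Submodule.span_singleton_le_iff_mem _ _).2 hx) hu)
    have hle : P.restrictScalars F ≤ cl K G (U₀ ⊔ F ∙ x) := fun c hc => by
      obtain ⟨g, hg, hgW, hgp⟩ := conn_tr O (hφP c hc) hW hφp
      have hmap : (U₀ ⊔ F ∙ x).map g.toLinearMap = U₀ ⊔ F ∙ x := by
        ext z
        refine ⟨?_, fun hz => ⟨z, hz, hgW z hz⟩⟩
        rintro ⟨u, hu, rfl⟩
        show g u ∈ _
        rw [hgW u hu]; exact hu
      have := cl_map_le (K := K) (U₀ ⊔ F ∙ x) hg ⟨p, hp, rfl⟩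
      rw [hmap, show g.toLinearMap p = p + c from hgp] at this
      simpa using (cl K G (U₀ ⊔ F ∙ x)).sub_mem this hp
    have h1 := Submodule.finrank_mono hle
    rw [finrank_restrict, hr, hPd] at h1
    have h2 : finrank F (cl K G (U₀ ⊔ F ∙ x)) = d := hall _ (by
      have h1 := Submodule.finrank_add_le_finrank_add_finrank U₀ (F ∙ x)
      have h2 : U₀ < U₀ ⊔ F ∙ x := lt_of_le_of_ne le_sup_left fun e =>
        hxU (e ▸ Submodule.mem_sup_right (Submodule.mem_span_singleton_self x))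
      have h3 := Submodule.finrank_lt_finrank_of_lt h2
      rw [finrank_span_singleton fun e : x = 0 => hxU (e ▸ U₀.zero_mem)] at h1
      omega)
    omega
  obtain ⟨a, ha⟩ : ∃ a, finrank F U₀ = a := ⟨_, rfl⟩
  obtain ⟨t, rfl⟩ : ∃ t, d = a + t := ⟨d - a, by omega⟩
  have h1 := partition hb hU₀ hall hU₀L fun x hx _ => cl_le (mem_lin hv)
    (sup_le hU₀L ((Submodule.span_singleton_le_iff_mem _ _).2 hx))
  have h2 := partition hb hU₀ hall (hU₀L.trans hLP) hE
  rw [finrank_lin hv, hr, ha, show r = a + (r - a) by omega] at h1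
  rw [finrank_restrict, hr, hPd, ha, show r * 2 = a + (r * 2 - a) by omega] at h2
  have ht1 := dvd_of_sub_dvd hq h1
  have ht2 := dvd_of_sub_dvd hq h2
  have htr : t ∣ r := by
    have := Nat.dvd_sub ht2 ht1
    rwa [show r * 2 - a - (r - a) = r by omega] at this
  rcases (Nat.dvd_prime hrp).1 htr with rfl | rfl
  · exact (Submodule.eq_of_le_of_finrank_eq (le_cl U) (by omega)).symm
  · exfalso
    obtain ⟨g, hg, k, w, hgw⟩ := O.nospread
    have hw : w ≠ 0 := fun e => hgw (by simp [e])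
    have key : ∀ x : V, x ≠ 0 → cl K G (F ∙ x) = Lin F K x := fun x hx =>
      Submodule.eq_of_le_of_finrank_eq (cl_le (mem_lin hx)
        ((Submodule.span_singleton_le_iff_mem _ _).2 (Submodule.mem_span_singleton_self x))) (by
        rw [hall _ (by rw [finrank_span_singleton hx]; omega), finrank_lin hx, hr]
        omega)
    have hmem : g (k • w) ∈ (cl K G (F ∙ w)).map g.toLinearMap :=
      ⟨k • w, by rw [key w hw]; exact Submodule.mem_span_singleton.2 ⟨k, rfl⟩, rfl⟩
    rw [← cl_map _ hg, Submodule.map_span, Set.image_singleton,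
      key _ (show g.toLinearMap w ≠ 0 from fun e => hw (g.map_eq_zero_iff.1 e))] at hmem
    exact hgw hmem

end CfsgLib.MaxSub.ExtLin
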