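import Mathlib.LinearAlgebra.Transvection.Basic
import Mathlib.RingTheory.Norm.Transitivity
import Mathlib.FieldTheory.Finiteness
import Mathlib.LinearAlgebra.Dual.Lemmas
import Mathlib.FieldTheory.Finite.Basic

/-!
Overgroups of the special linear group over an extension field: basic notions.
-/

set_option autoImplicit false

namespace CfsgLib.MaxSub.ExtLin

open Module

variable (F K : Type*) {V : Type*} [Field F] [Field K] [Algebra F K] [AddCommGroup V] [Module F V]
  [Module K V] [IsScalarTower F K V]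

/-- The line over the extension field, as a subspace over the ground field. -/
def Lin (v : V) : Submodule F V := (K ∙ v).restrictScalars F

/-- A group of linear maps containing the special semilinear maps and permuting no spread. -/
structure Over (G : Subgroup (V ≃ₗ[F] V)) : Prop where
  lin : ∀ f : V ≃ₗ[K] V, LinearMap.det (f.toLinearMap.restrictScalars F) = 1 →
    f.restrictScalars F ∈ G
  two : 2 ≤ finrank K V
  prime : (finrank F K).Prime
  nospread : ∃ g ∈ G, ∃ (k : K) (v : V), g (k • v) ∉ K ∙ g v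

variable {F K}

variable (G : Subgroup (V ≃ₗ[F] V))

/-- The images of the lines over the extension field. -/
def Mem (K : Type*) [Field K] [Algebra F K] [Module K V] [IsScalarTower F K V]
    (M : Submodule F V) : Prop :=
  ∃ g ∈ G, ∃ v : V, v ≠ 0 ∧ M = (Lin F K v).map g.toLinearMap

/-- The pointwise stabiliser of `U` maps `x` to `y`. -/
def Conn (U : Submodule F V) (x y : V) : Prop := ∃ g ∈ G, (∀ u ∈ U, g u = u) ∧ g x = y

/-- The pointwise stabiliser of `U` is transitive off `U`. -/
def TR (U : Submodule F V) : Prop := ∀ x y, x ∉ U → y ∉ U → Conn G U x y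

/-- Transitivity off all subspaces of dimension less than `s`. -/
def Below (s : ℕ) : Prop := ∀ U : Submodule F V, finrank F U < s → TR G U

variable {G}

theorem Conn.refl (U : Submodule F V) (x : V) : Conn G U x x := ⟨1, one_mem G, fun _ _ => rfl, rfl⟩

theorem Conn.symm {U : Submodule F V} {x y : V} (h : Conn G U x y) : Conn G U y x := by
  obtain ⟨g, hg, hU, rfl⟩ := h
  refine ⟨g⁻¹, inv_mem hg, fun u hu => ?_, g.symm_apply_apply x⟩
  show g.symm u = u
  conv_lhs => rw [← hU u hu]
  exact g.symm_apply_apply u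

theorem Conn.trans {U : Submodule F V} {x y z : V} (h : Conn G U x y) (h' : Conn G U y z) :
    Conn G U x z := by
  obtain ⟨g, hg, hU, rfl⟩ := h
  obtain ⟨g', hg', hU', rfl⟩ := h'
  exact ⟨g' * g, mul_mem hg' hg, fun u hu => by
    show g' (g u) = u
    rw [hU u hu, hU' u hu], rfl⟩

theorem Conn.mono {U U' : Submodule F V} {x y : V} (hUU : U' ≤ U) (h : Conn G U x y) :
    Conn G U' x y := by
  obtain ⟨g, hg, hU, he⟩ := h
  exact ⟨g, hg, fun u hu => hU u (hUU hu), he⟩

section

omit [IsScalarTower F K V] in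
theorem mem_lin_iff [IsScalarTower F K V] {v x : V} : x ∈ Lin F K v ↔ ∃ k : K, k • v = x :=
  Submodule.mem_span_singleton

theorem finrank_lin {v : V} (hv : v ≠ 0) : finrank F (Lin F K v) = finrank F K :=
  ((LinearEquiv.toSpanNonzeroSingleton K V v hv).restrictScalars F).finrank_eq.symm

theorem finrank_restrict (P : Submodule K V) :
    finrank F (P.restrictScalars F) = finrank F K * finrank K P :=
  (Module.finrank_mul_finrank F K P).symm

theorem Mem.finrank_eq {M : Submodule F V} (h : Mem G K M) : finrank F M = finrank F K := by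
  obtain ⟨g, -, v, hv, rfl⟩ := h
  rw [LinearEquiv.finrank_map_eq, finrank_lin hv]

theorem Mem.map {M : Submodule F V} (h : Mem G K M) {g : V ≃ₗ[F] V} (hg : g ∈ G) :
    Mem G K (M.map g.toLinearMap) := by
  obtain ⟨g', hg', v, hv, rfl⟩ := h
  exact ⟨g * g', mul_mem hg hg', v, hv, by rw [← Submodule.map_comp]; rfl⟩

theorem mem_lin {v : V} (hv : v ≠ 0) : Mem G K (Lin F K v) :=
  ⟨1, one_mem G, v, hv, (Submodule.map_id _).symm⟩

/-- Two functional values off a subspace. -/
theorem exists_functional {P : Submodule K V} {x y : V} (hx : x ∉ P) (hy : y ∉ P ⊔ K ∙ x)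
    (a b : K) : ∃ φ : Module.Dual K V, (∀ p ∈ P, φ p = 0) ∧ φ x = a ∧ φ y = b := by
  obtain ⟨f, hf, hfP⟩ := Submodule.exists_dual_map_eq_bot_of_notMem hx inferInstance
  obtain ⟨f', hf', hfP'⟩ := Submodule.exists_dual_map_eq_bot_of_notMem hy inferInstance
  have h0 : ∀ p ∈ P, f p = 0 := fun p hp =>
    (Submodule.mem_bot K).1 (hfP ▸ Submodule.mem_map_of_mem hp)
  have h0' : ∀ p ∈ P ⊔ K ∙ x, f' p = 0 := fun p hp =>
    (Submodule.mem_bot K).1 (hfP' ▸ Submodule.mem_map_of_mem hp)
  refine ⟨(a / f x) • f + ((b - a / f x * f y) / f' y) • f', fun p hp => ?_, ?_, ?_⟩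
  · simp [h0 p hp, h0' p (Submodule.mem_sup_left hp)]
  · simp [h0' x (Submodule.mem_sup_right (Submodule.mem_span_singleton_self x)),
      div_mul_cancel₀ a hf]
  · simp [div_mul_cancel₀ _ hf']

theorem exists_functional_one {P : Submodule K V} {x : V} (hx : x ∉ P) :
    ∃ φ : Module.Dual K V, (∀ p ∈ P, φ p = 0) ∧ φ x = 1 := by
  obtain ⟨f, hf, hfP⟩ := Submodule.exists_dual_map_eq_bot_of_notMem hx inferInstance
  refine ⟨(f x)⁻¹ • f, fun p hp => ?_, ?_⟩
  · have : f p = 0 := (Submodule.mem_bot K).1 (hfP ▸ Submodule.mem_map_of_mem hp)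
    simp [this]
  · simp [inv_mul_cancel₀ hf]

variable [FiniteDimensional F V]

theorem tr_mem (O : Over F K G) (φ : Module.Dual K V) {c : V} (h : φ c = 0) :
    (LinearEquiv.transvection h).restrictScalars F ∈ G := by
  haveI : Module.Finite K V := Module.Finite.right F K V
  refine O.lin _ ?_
  rw [LinearMap.det_restrictScalars, LinearEquiv.transvection.coe_toLinearMap,
    LinearMap.transvection.det, h, add_zero, map_one]

theorem conn_tr (O : Over F K G) {φ : Module.Dual K V} {c : V} (h : φ c = 0) {U : Submodule F V}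
    (hU : ∀ u ∈ U, φ u = 0) {x : V} (hx : φ x = 1) : Conn G U x (x + c) :=
  ⟨_, tr_mem O φ h, fun u hu => by
    show u + φ u • c = u
    rw [hU u hu, zero_smul, add_zero], by
    show x + φ x • c = x + c
    rw [hx, one_smul]⟩

/-- A member shifts every vector outside it by every vector inside it. -/
theorem Mem.shift (O : Over F K G) {M : Submodule F V} (h : Mem G K M) {z c : V} (hz : z ∉ M)
    (hc : c ∈ M) : Conn G M z (z + c) := by
  obtain ⟨g, hg, v, hv, rfl⟩ := h
  obtain ⟨c', hc', rfl⟩ := hc
  obtain ⟨z', rfl⟩ := g.surjective z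
  have hz' : z' ∉ K ∙ v := fun h' => hz ⟨z', h', rfl⟩
  obtain ⟨φ, hφ, hφz⟩ := exists_functional_one hz'
  obtain ⟨t, ht, htU, htz⟩ := conn_tr O (hφ c' hc') (U := Lin F K v) hφ hφz
  refine ⟨g * t * g⁻¹, mul_mem (mul_mem hg ht) (inv_mem hg), ?_, ?_⟩
  · rintro _ ⟨u, hu, rfl⟩
    show g (t (g.symm (g u))) = g u
    rw [g.symm_apply_apply, htU u hu]
  · show g (t (g.symm (g z'))) = _
    rw [g.symm_apply_apply, htz, map_add]
    rfl

theorem out_conn (O : Over F K G) {P : Submodule K V} {x y : V} (hx : x ∉ P)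
    (hy : y ∉ P ⊔ K ∙ x) : Conn G (P.restrictScalars F) x y := by
  obtain ⟨φ, hP, hφx, hφy⟩ := exists_functional hx hy 1 1
  have := conn_tr O (c := y - x) (φ := φ) (by rw [map_sub, hφx, hφy, sub_self])
    (U := P.restrictScalars F) hP hφx
  rwa [add_sub_cancel] at this

theorem out_all (O : Over F K G) {P : Submodule K V} (hP : finrank K P + 1 < finrank K V) {x y : V}
    (hx : x ∉ P) (hy : y ∉ P) : Conn G (P.restrictScalars F) x y := by
  haveI : Module.Finite K V := Module.Finite.right F K V
  by_cases h : y ∈ P ⊔ K ∙ x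
  swap
  · exact out_conn O hx h
  obtain ⟨z, hz⟩ : ∃ z, z ∉ P ⊔ K ∙ x := by
    by_contra hc
    push Not at hc
    have h1 : finrank K ↥(P ⊔ K ∙ x) = finrank K V := by
      rw [show P ⊔ K ∙ x = ⊤ from eq_top_iff.2 fun w _ => hc w, finrank_top]
    have h2 := Submodule.finrank_add_le_finrank_add_finrank P (K ∙ x)
    have hx0 : x ≠ 0 := fun e => hx (e ▸ P.zero_mem)
    rw [finrank_span_singleton hx0] at h2
    omega
  refine (out_conn O hx hz).trans (Conn.symm (out_conn O hy fun hzy => hz ?_))
  exact sup_le le_sup_left ((Submodule.span_singleton_le_iff_mem _ _).2 h) hzy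

theorem tr_bot (O : Over F K G) : TR G (⊥ : Submodule F V) := by
  intro x y hx hy
  have h2 := O.two
  have h := out_all O (P := ⊥) (by rw [finrank_bot]; omega) (x := x) (y := y)
    (fun h => hx ((Submodule.mem_bot F).2 ((Submodule.mem_bot K).1 h)))
    (fun h => hy ((Submodule.mem_bot F).2 ((Submodule.mem_bot K).1 h)))
  exact h.mono bot_le

theorem TR.map {U : Submodule F V} (h : TR G U) {g : V ≃ₗ[F] V} (hg : g ∈ G) :
    TR G (U.map g.toLinearMap) := by
  intro x y hx hy
  obtain ⟨x', rfl⟩ := g.surjective x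
  obtain ⟨y', rfl⟩ := g.surjective y
  obtain ⟨t, ht, htU, rfl⟩ :=
    h x' y' (fun h' => hx ⟨x', h', rfl⟩) (fun h' => hy ⟨y', h', rfl⟩)
  refine ⟨g * t * g⁻¹, mul_mem (mul_mem hg ht) (inv_mem hg), ?_, ?_⟩
  · rintro _ ⟨u, hu, rfl⟩
    show g (t (g.symm (g u))) = g u
    rw [g.symm_apply_apply, htU u hu]
  · show g (t (g.symm (g x'))) = _
    rw [g.symm_apply_apply]

theorem Below.mono {s s' : ℕ} (h : Below G s) (hs : s' ≤ s) : Below G s' :=
  fun U hU => h U (hU.trans_le hs)

/-- Transitivity on independent tuples. -/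
theorem move : ∀ {s : ℕ}, Below G s → ∀ (x y : Fin s → V), LinearIndependent F x →
    LinearIndependent F y → ∃ g ∈ G, ∀ i, g (x i) = y i := by
  intro s
  induction s with
  | zero => exact fun _ _ _ _ _ => ⟨1, one_mem G, fun i => i.elim0⟩
  | succ s ih =>
    intro hb x y hx hy
    obtain ⟨g, hg, hgi⟩ := ih (hb.mono s.le_succ) (x ∘ Fin.castSucc) (y ∘ Fin.castSucc)
      (hx.comp _ (Fin.castSucc_injective s)) (hy.comp _ (Fin.castSucc_injective s))
    let U := Submodule.span F (Set.range (y ∘ Fin.castSucc))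
    have hyU : y (Fin.last s) ∉ U := by
      have := hy.notMem_span_image (s := Set.range Fin.castSucc) (x := Fin.last s)
        (by rintro ⟨j, hj⟩; exact Fin.castSucc_ne_last j hj)
      rwa [← Set.range_comp] at this
    have hxU : g (x (Fin.last s)) ∉ U := by
      have hgx : LinearIndependent F (g ∘ x) := hx.map' g.toLinearMap g.ker
      have := hgx.notMem_span_image (s := Set.range Fin.castSucc) (x := Fin.last s)
        (by rintro ⟨j, hj⟩; exact Fin.castSucc_ne_last j hj)
      rwa [← Set.range_comp, show (⇑g ∘ x) ∘ Fin.castSucc = y ∘ Fin.castSucc from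
        funext fun i => hgi i] at this
    have hUd : finrank F U < s + 1 := by
      rw [finrank_span_eq_card (hy.comp _ (Fin.castSucc_injective s)), Fintype.card_fin]
      exact s.lt_succ_self
    obtain ⟨t, ht, htU, htx⟩ := hb U hUd _ _ hxU hyU
    refine ⟨t * g, mul_mem ht hg, fun i => ?_⟩
    show t (g (x i)) = y i
    induction i using Fin.lastCases with
    | last => exact htx
    | cast j =>
      rw [show g (x j.castSucc) = y j.castSucc from hgi j]
      exact htU _ (Submodule.subset_span ⟨j, rfl⟩)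

omit [FiniteDimensional F V] in
theorem span_basis {U : Submodule F V} {d : ℕ} (b : Basis (Fin d) F U) :
    Submodule.span F (Set.range fun i => (b i : V)) = U := by
  rw [show (fun i => (b i : V)) = U.subtype ∘ b from rfl, Set.range_comp, ← Submodule.map_span,
    b.span_eq, Submodule.map_top, Submodule.range_subtype]

theorem map_subspace {s d : ℕ} (hb : Below G s) (hd : d ≤ s) {U U' : Submodule F V}
    (hU : finrank F U = d) (hU' : finrank F U' = d) : ∃ g ∈ G, U.map g.toLinearMap = U' := by
  let b := Module.finBasisOfFinrankEq F U hU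
  let b' := Module.finBasisOfFinrankEq F U' hU'
  obtain ⟨g, hg, hgi⟩ := move (hb.mono hd) (fun i => (b i : V)) (fun i => (b' i : V))
    (b.linearIndependent.map' U.subtype U.ker_subtype)
    (b'.linearIndependent.map' U'.subtype U'.ker_subtype)
  refine ⟨g, hg, ?_⟩
  rw [← span_basis b, ← span_basis b', Submodule.map_span, ← Set.range_comp]
  congr 2
  exact funext hgi

theorem below_succ {s : ℕ} (hb : Below G s) {U : Submodule F V} (hU : finrank F U = s)
    (h : TR G U) : Below G (s + 1) := by
  intro U' hU'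
  rcases Nat.lt_succ_iff_lt_or_eq.1 hU' with h' | h'
  · exact hb U' h'
  · obtain ⟨g, hg, rfl⟩ := map_subspace hb le_rfl hU h'
    exact h.map hg

end

end CfsgLib.MaxSub.ExtLin
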