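import Cfsg.Agent.Lib.MaxSub.ExtLin.Transvection

/-!
Planes over the field with four elements, over the field with two elements.
-/

set_option autoImplicit false

namespace CfsgLib.MaxSub.ExtLin

open Module

variable {F K V : Type*} [Field F] [Fintype F] [Field K] [Algebra F K] [AddCommGroup V] [Module F V]
  [Module K V] [IsScalarTower F K V] [FiniteDimensional F V] [FiniteDimensional F K]
  {G : Subgroup (V ≃ₗ[F] V)}

omit [Fintype F] [FiniteDimensional F V] [FiniteDimensional F K] in
theorem linear_preserves (f : V ≃ₗ[K] V) (k : K) (x : V) :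
    f.restrictScalars F (k • x) ∈ K ∙ f.restrictScalars F x :=
  Submodule.mem_span_singleton.2 ⟨k, (f.map_smul k x).symm⟩

/-- An element fixing a line pointwise is linear over the extension field. -/
theorem linear_of_fixes (O : Over F K G) (hm : finrank K V = 2)
    (hall : ∀ g : V ≃ₗ[F] V, (∀ (k : K) (v : V), g (k • v) ∈ K ∙ g v) → g ∈ G)
    (hno : ¬ ∃ (u : V) (φ : Dual F V), u ≠ 0 ∧ φ ≠ 0 ∧ φ u = 0 ∧ TIn G u φ) {v : V} (hv : v ≠ 0)
    {h : V ≃ₗ[F] V} (hh : h ∈ G) (hfix : ∀ k : K, h (k • v) = k • v) (k : K) (x : V) :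
    h (k • x) = k • h x := by
  haveI : Module.Finite K V := Module.Finite.right F K V
  obtain ⟨x₀, hx₀⟩ := exists_notMem_line O hv
  obtain ⟨π, hπ, hπx⟩ := exists_functional_one hx₀
  have hker : ∀ z, π z = 0 → z ∈ K ∙ v := by
    intro z hz
    have hle : K ∙ v ≤ LinearMap.ker π := fun p hp => hπ p hp
    refine (Submodule.eq_of_le_of_finrank_eq hle ?_).ge hz
    have h1 := Submodule.finrank_lt (K := K) (V := V) (s := LinearMap.ker π) fun e => by
      have : x₀ ∈ LinearMap.ker π := e ▸ Submodule.mem_top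
      rw [LinearMap.mem_ker, hπx] at this
      exact one_ne_zero this
    have h2 := Submodule.finrank_mono hle
    rw [finrank_span_singleton hv] at h2 ⊢
    omega
  have hfixL : ∀ p ∈ K ∙ v, h p = p := fun p hp => by
    obtain ⟨a, rfl⟩ := Submodule.mem_span_singleton.1 hp
    exact hfix a
  choose mu hmu using (transvection_or_scalar O hm hv hx₀ hπ hπx hh (α := LinearEquiv.refl F K)
    hfix).resolve_left hno
  simp only [LinearEquiv.refl_apply] at hmu
  have hmu1 : mu 1 ≠ 0 := fun e => by
    have := hmu 1 1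
    rw [e, zero_mul, mul_one] at this
    exact one_ne_zero this
  have hβ : ∀ a : K, π (h (a • x₀)) = a / mu 1 := fun a => by
    rw [eq_div_iff hmu1, mul_comm, ← hmu 1 a, one_mul]
  obtain ⟨y, hy⟩ : ∃ y, h x₀ = y := ⟨_, rfl⟩
  have hyπ : π y = 1 / mu 1 := by rw [← hy, ← hβ 1, one_smul]
  have hy0 : y ∉ K ∙ v := fun e => by
    rw [hπ y e] at hyπ
    exact div_ne_zero one_ne_zero hmu1 hyπ.symm
  have hdet : LinearMap.det (LinearMap.transvection π (y - x₀)) ≠ 0 := by
    rw [LinearMap.transvection.det, map_sub, hπx, hyπ, add_sub_cancel]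
    exact div_ne_zero one_ne_zero hmu1
  obtain ⟨f, hf⟩ : ∃ f : V ≃ₗ[K] V, ∀ z, f z = z + π z • (y - x₀) :=
    ⟨LinearEquiv.ofBijective _ ((Module.End.isUnit_iff _).1
      ((LinearMap.isUnit_iff_isUnit_det _).2 hdet.isUnit)), fun z => rfl⟩
  have hfG := hall (f.restrictScalars F) (linear_preserves f)
  obtain ⟨X, hX⟩ : ∃ X : V →ₗ[F] V, ∀ z, X z = h (f.symm z) - z :=
    ⟨h.toLinearMap ∘ₗ (f.symm.restrictScalars F).toLinearMap - LinearMap.id, fun z => rfl⟩
  have hXU : UIn G X := ⟨h * (f.restrictScalars F)⁻¹, mul_mem hh (inv_mem hfG), fun z => by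
    show h (f.symm z) = _
    rw [hX, add_sub_cancel]⟩
  have hfy : f x₀ = y := by rw [hf, hπx, one_smul, add_sub_cancel]
  have hXL : ∀ z ∈ K ∙ v, X z = 0 := fun z hz => by
    have : f.symm z = z := f.symm_apply_eq.2 (by rw [hf, hπ z hz, zero_smul, add_zero])
    rw [hX, this, hfixL z hz, sub_self]
  have hXr : ∀ z, X z ∈ Lin F K v := fun z => hker _ (by
    obtain ⟨w, rfl⟩ := f.surjective z
    rw [hX, f.symm_apply_apply, map_sub, hf, map_add, π.map_smul, map_sub, hπx, hyπ]
    have hw : h w = h (π w • x₀) + (w - π w • x₀) := by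
      rw [← hfixL (w - π w • x₀) (hker _ (by simp [hπx])), ← map_add, add_sub_cancel]
    rw [hw, map_add, hβ, map_sub, π.map_smul, hπx]
    simp only [smul_eq_mul]
    ring)
  have h0 : X = 0 := by_contra fun e => hno (transvection_of_kills O hm hv hy0 hXU hXr hXL
    (by rw [hX, ← hfy, f.symm_apply_apply, hy, hfy, sub_self]) e)
  have key : ∀ z, h z = f z := fun z => by
    have := LinearMap.congr_fun h0 (f z)
    rwa [hX, f.symm_apply_apply, LinearMap.zero_apply, sub_eq_zero] at this
  rw [key, key, map_smul]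

omit [Fintype F] [FiniteDimensional F V] [FiniteDimensional F K] [Module F V] [IsScalarTower F K V]
  [Algebra F K] in
theorem exists_equiv_apply {u w : V} (hu : u ≠ 0) (hw : w ≠ 0) :
    ∃ n : V ≃ₗ[K] V, n u = w := by
  by_cases h : w ∈ K ∙ u
  · obtain ⟨k, rfl⟩ := Submodule.mem_span_singleton.1 h
    have hk : k ≠ 0 := fun e => hw (by simp [e])
    exact ⟨LinearEquiv.smulOfUnit (Units.mk0 k hk), rfl⟩
  · have hub : u ∉ (⊥ : Submodule K V) := by simpa using hu
    obtain ⟨φ, -, hφu, hφw⟩ := exists_functional hub (by simpa using h) 1 1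
    exact ⟨LinearEquiv.transvection (f := φ) (v := w - u) (by simp [hφu, hφw]), by
      rw [LinearEquiv.transvection.apply, hφu, one_smul, add_sub_cancel]⟩

/-- The smallest case. -/
theorem exists_transvection_small (O : Over F K G) (hm : finrank K V = 2) (hr : finrank F K = 2)
    (hq : Fintype.card F = 2)
    (hall : ∀ g : V ≃ₗ[F] V, (∀ (k : K) (v : V), g (k • v) ∈ K ∙ g v) → g ∈ G) :
    ∃ (u : V) (φ : Dual F V), u ≠ 0 ∧ φ ≠ 0 ∧ φ u = 0 ∧ TIn G u φ := by
  classical
  refine by_contra fun hno => ?_
  haveI : Module.Finite K V := Module.Finite.right F K V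
  haveI : Finite K := Module.finite_of_finite F
  haveI : Fintype K := Fintype.ofFinite K
  have hK : Fintype.card K = 4 := by
    rw [← Nat.card_eq_fintype_card, Module.natCard_eq_pow_finrank (K := F), Nat.card_eq_fintype_card,
      hq, hr]; rfl
  have h4 : ∀ k : K, k ^ 4 = k := fun k => hK ▸ FiniteField.pow_card k
  have h2F : (2 : F) = 0 := by
    have := FiniteField.cast_card_eq_zero F
    rwa [hq, Nat.cast_ofNat] at this
  have h2 : (2 : K) = 0 := by
    have := congrArg (algebraMap F K) h2F
    rwa [map_ofNat, map_zero] at this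
  obtain ⟨o, ho⟩ := Finset.exists_mem_notMem_of_card_lt_card (s := ({0, 1} : Finset K))
    (t := Finset.univ) (by rw [Finset.card_univ, hK]; exact (Finset.card_le_two).trans_lt (by norm_num))
  have ho0 : o ≠ 0 := fun e => ho.2 (by simp [e])
  have ho1 : o ≠ 1 := fun e => ho.2 (by simp [e])
  have hoo : o * o = o + 1 := by
    have h : o * (o - 1) * (o * o + o + 1) = 0 := by linear_combination h4 o
    rcases mul_eq_zero.1 h with h | h
    · rcases mul_eq_zero.1 h with h | h
      · exact absurd h ho0
      · exact absurd (sub_eq_zero.1 h) ho1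
    · linear_combination h - (o + 1) * h2
  have hcases : ∀ k : K, k = 0 ∨ k = 1 ∨ k = o ∨ k = o + 1 := by
    have hcard : ({0, 1, o, o + 1} : Finset K) = Finset.univ := Finset.eq_univ_of_card _ (by
      rw [hK, Finset.card_insert_of_notMem, Finset.card_insert_of_notMem,
        Finset.card_insert_of_notMem, Finset.card_singleton]
      · simp only [Finset.mem_singleton]
        exact fun h => one_ne_zero (show (1 : K) = 0 by linear_combination -h)
      · simp only [Finset.mem_insert, Finset.mem_singleton, not_or]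
        exact ⟨Ne.symm ho1, fun h => ho0 (by linear_combination -h)⟩
      · simp only [Finset.mem_insert, Finset.mem_singleton, not_or]
        exact ⟨zero_ne_one, Ne.symm ho0, fun h => ho1 (by linear_combination -h - h2)⟩)
    intro k
    simpa using hcard.ge (Finset.mem_univ k)
  have hF : ∀ a : F, a = 0 ∨ a = 1 := fun a => by
    by_contra h
    push Not at h
    have := Finset.card_le_univ ({0, 1, a} : Finset F)
    rw [hq, Finset.card_insert_of_notMem (by simp [Ne.symm h.1]),
      Finset.card_insert_of_notMem (by simp [Ne.symm h.2]), Finset.card_singleton] at this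
    omega
  haveI : Nontrivial V := Module.nontrivial_of_finrank_pos (R := K) (by omega)
  obtain ⟨e, he⟩ := exists_ne (0 : V)
  obtain ⟨f, hf⟩ := exists_notMem_line O he
  obtain ⟨π, hπ, hπf⟩ := exists_functional_one hf
  have hπe : π e = 0 := hπ e (Submodule.mem_span_singleton_self e)
  have heb : e ∉ (⊥ : Submodule K V) := by simpa using he
  obtain ⟨ρ, -, hρe, hρf⟩ := exists_functional heb (by simpa using hf) (1 : K) 0
  have hxy : ∀ x, x = ρ x • e + π x • f := by
    have hP : (K ∙ e) ⊔ K ∙ f = ⊤ := Submodule.eq_top_of_finrank_eq (by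
      have h1 : K ∙ e < (K ∙ e) ⊔ K ∙ f := lt_of_le_of_ne le_sup_left fun h =>
        hf (h.ge (Submodule.mem_sup_right (Submodule.mem_span_singleton_self f)) :)
      have h2 := Submodule.finrank_lt_finrank_of_lt h1
      have h3 := Submodule.finrank_le ((K ∙ e) ⊔ K ∙ f)
      rw [finrank_span_singleton he] at h2
      omega)
    intro x
    obtain ⟨p, hp, q', hq', rfl⟩ := Submodule.mem_sup.1 (show x ∈ (K ∙ e) ⊔ K ∙ f by rw [hP]; trivial)
    obtain ⟨a, rfl⟩ := Submodule.mem_span_singleton.1 hp
    obtain ⟨b, rfl⟩ := Submodule.mem_span_singleton.1 hq'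
    simp [hρe, hρf, hπe, hπf]
  have hext : ∀ x y, ρ x = ρ y → π x = π y → x = y := fun x y h h' => by
    rw [hxy x, hxy y, h, h']
  -- the field automorphism
  let s : V →ₗ[F] V :=
    { toFun := fun x => (ρ x * ρ x) • e + (π x * π x) • f
      map_add' := fun x y => hext _ _
        (by simp [hρe, hρf]; linear_combination ρ x * ρ y * h2)
        (by simp [hπe, hπf]; linear_combination π x * π y * h2)
      map_smul' := fun a x => by rcases hF a with rfl | rfl <;> simp }
  have hs : ∀ x, s x = (ρ x * ρ x) • e + (π x * π x) • f := fun x => rfl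
  have hss : ∀ x, s (s x) = x := fun x => hext _ _
    (by simp [hs, hρe, hρf]; linear_combination h4 (ρ x))
    (by simp [hs, hπe, hπf]; linear_combination h4 (π x))
  obtain ⟨sg, hsg⟩ : ∃ sg : V ≃ₗ[F] V, ∀ x, sg x = s x :=
    ⟨LinearEquiv.ofLinear s s (LinearMap.ext hss) (LinearMap.ext hss), fun x => rfl⟩
  have hsgG : sg ∈ G := hall sg fun k x => Submodule.mem_span_singleton.2 ⟨k * k, hext _ _
    (by simp [hsg, hs, hρe, hρf]; ring) (by simp [hsg, hs, hπe, hπf]; ring)⟩
  -- multiplication and a rotation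
  let Om : V ≃ₗ[K] V := LinearEquiv.smulOfUnit (Units.mk0 o ho0)
  have hOm : ∀ x, Om x = o • x := fun x => rfl
  let t0 : V →ₗ[K] V := π.smulRight e + (ρ + π).smulRight f
  have ht0 : ∀ x, t0 x = π x • e + (ρ x + π x) • f := fun x => rfl
  obtain ⟨t, ht⟩ : ∃ t : V ≃ₗ[K] V, ∀ x, t x = π x • e + (ρ x + π x) • f :=
    ⟨LinearEquiv.ofInjectiveEndo t0 ((injective_iff_map_eq_zero t0).2 fun x hx => by
      have h1 : π x = 0 := by simpa [ht0, hρe, hρf] using congrArg ρ hx
      exact hext _ _ (by simpa [ht0, hπe, hπf, h1] using congrArg π hx) (by simp [h1])), fun x => rfl⟩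
  have hte : t e = f := by simp [ht, hρe, hπe]
  have htf : t f = e + f := by simp [ht, hρf, hπf]
  -- an element taking the multiplication to the rotation on a line
  have hne : ∀ {a b : V}, a ≠ 0 → b ≠ 0 → b ≠ a → LinearIndependent F ![a, b] := fun ha hb hab =>
    (LinearIndependent.pair_iff' ha).2 fun a' => by
      rcases hF a' with rfl | rfl
      · rw [zero_smul]; exact hb.symm
      · rw [one_smul]; exact hab.symm
  have hf0 : f ≠ 0 := fun h => hf (h ▸ Submodule.zero_mem _)
  obtain ⟨g, hg, hgi⟩ := move ((below_degree O).mono hr.ge) ![e, o • e] ![e, f]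
    (hne he (smul_ne_zero ho0 he) fun h => ho1 (smul_left_injective K he (h.trans (one_smul K e).symm)))
    (hne he hf0 fun h => hf (by rw [h]; exact Submodule.mem_span_singleton_self e))
  have hge : g e = e := hgi 0
  have hgo : g (o • e) = f := hgi 1
  have hgo2 : g (o • o • e) = e + f := by
    rw [smul_smul, hoo, add_smul, one_smul, map_add, hgo, hge, add_comm]
  have hge' : g.symm e = e := g.symm_apply_eq.2 hge.symm
  have hgf : g.symm f = o • e := g.symm_apply_eq.2 hgo.symm
  have hgef : g.symm (e + f) = o • o • e := g.symm_apply_eq.2 hgo2.symm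
  have hfix : ∀ h : V ≃ₗ[F] V, h ∈ G → h e = e → h (o • e) = o • e →
      ∀ (k : K) x, h (k • x) = k • h x := fun h hh h1 h1o =>
    linear_of_fixes O hm hall hno he hh fun k => by
      rcases hcases k with rfl | rfl | rfl | rfl
      · simp
      · rw [one_smul, h1]
      · exact h1o
      · rw [add_smul, map_add, h1o, one_smul, h1]
  obtain ⟨c, hc⟩ : ∃ c : V → V, ∀ x, c x = g (o • g.symm x) := ⟨_, fun _ => rfl⟩
  have hcadd : ∀ x y, c (x + y) = c x + c y := fun x y => by simp [hc]
  have hce : c e = f := by rw [hc, hge', hgo]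
  have hcf : c f = e + f := by rw [hc, hgf, hgo2]
  have hcc : ∀ x, c (c x) = c x + x := fun x => by
    rw [hc, hc, g.symm_apply_apply, smul_smul, hoo, add_smul, one_smul, map_add, g.apply_symm_apply]
  have hsc : ∀ x, sg (c x) = c (sg x) := fun x => by
    have := hfix (g⁻¹ * sg * g) (mul_mem (mul_mem (inv_mem hg) hsgG) hg)
      (show g.symm (sg (g e)) = e by rw [hge, hsg, hs, hρe, hπe]; simp [hge'])
      (show g.symm (sg (g (o • e))) = o • e by rw [hgo, hsg, hs, hρf, hπf]; simp [hgf])
      o (g.symm x)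
    change g.symm (sg (g (o • g.symm x))) = o • g.symm (sg (g (g.symm x))) at this
    rw [g.apply_symm_apply, ← hc, g.symm_apply_eq] at this
    rw [this, hc]
  have htc : ∀ x, t (c x) = c (t x) := fun x => by
    have hG := mul_mem (inv_mem (hall (Om.restrictScalars F) (linear_preserves Om)))
      (mul_mem (mul_mem (inv_mem hg) (hall (t.restrictScalars F) (linear_preserves t))) hg)
    have := hfix _ hG
      (show Om.symm (g.symm (t (g e))) = e by rw [hge, hte, hgf, ← hOm, Om.symm_apply_apply])
      (show Om.symm (g.symm (t (g (o • e)))) = o • e by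
        rw [hgo, htf, hgef, ← hOm (o • e), Om.symm_apply_apply])
      o (g.symm x)
    change Om.symm (g.symm (t (g (o • g.symm x)))) = o • Om.symm (g.symm (t (g (g.symm x)))) at this
    rw [g.apply_symm_apply, ← hc, ← hOm (Om.symm _), Om.apply_symm_apply, Om.symm_apply_eq, hOm,
      g.symm_apply_eq] at this
    rw [this, hc]
  obtain ⟨a, b, hy⟩ : ∃ a b, c (o • e) = a • e + b • f := ⟨_, _, hxy _⟩
  have hso : c (o • e) + f = sg (c (o • e)) := by
    rw [hsc, show sg (o • e) = o • e + e from by
      simp [hsg, hs, hρe, hπe, hoo, add_smul], hcadd, hce]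
  have ha : a * a = a := by
    have := congrArg ρ hso
    simpa [hy, hsg, hs, hρe, hρf] using this.symm
  have hb : b * b = b + 1 := by
    have := congrArg π hso
    simpa [hy, hsg, hs, hπe, hπf] using this.symm
  have hcof : c (o • f) = b • e + (a + b) • f := by
    rw [show o • f = t (o • e) by rw [map_smul, hte], ← htc, hy, ht]
    simp [hρe, hρf, hπe, hπf]
  have ha' : a = 0 ∨ a = 1 := by
    have h : a * (a - 1) = 0 := by linear_combination ha
    rcases mul_eq_zero.1 h with h | h
    · exact Or.inl h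
    · exact Or.inr (sub_eq_zero.1 h)
  have hb' : b = o ∨ b = o + 1 := by
    have h : (b - o) * (b - (o + 1)) = 0 := by linear_combination hb + hoo + (o + 1 - o * b) * h2
    rcases mul_eq_zero.1 h with h | h
    · exact Or.inl (sub_eq_zero.1 h)
    · exact Or.inr (sub_eq_zero.1 h)
  have key := hcc (o • e)
  have hc0 : c 0 = 0 := by simp [hc]
  have hcbad : a = 0 ∧ b = o := by
    rw [hy] at key
    have hπk := congrArg π key
    have hρk := congrArg ρ key
    rcases ha' with rfl | rfl <;> rcases hb' with rfl | rfl <;>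
      simp [hcadd, hc0, hce, hcf, hcof, add_smul, hρe, hρf, hπe, hπf] at hπk hρk ⊢ <;>
      first
      | exact one_ne_zero (show (1 : K) = 0 by linear_combination hπk)
      | exact one_ne_zero (show (1 : K) = 0 by linear_combination hρk)
      | exact one_ne_zero (show (1 : K) = 0 by linear_combination -hπk)
      | exact one_ne_zero (show (1 : K) = 0 by linear_combination -hρk)
      | exact one_ne_zero (show (1 : K) = 0 by linear_combination hπk - h2)
      | exact one_ne_zero (show (1 : K) = 0 by linear_combination hρk - h2)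
      | exact one_ne_zero (show (1 : K) = 0 by linear_combination hπk - (o + 1) * h2)
      | exact one_ne_zero (show (1 : K) = 0 by linear_combination hρk - (o + 1) * h2)
  obtain ⟨rfl, rfl⟩ := hcbad
  obtain ⟨u, hu⟩ : ∃ u, u = e + b • f := ⟨_, rfl⟩
  have hcu : c u = b • u := by
    rw [hu, hcadd, hce, hcof, smul_add, smul_smul, hoo, zero_add, add_smul, one_smul]
    abel
  have hu0 : u ≠ 0 := fun h => by
    have := congrArg ρ h
    simp [hu, hρe, hρf] at this
  have hw0 : g.symm u ≠ 0 := fun h => hu0 (g.symm.map_eq_zero_iff.1 h)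
  obtain ⟨n, hn⟩ := exists_equiv_apply (K := K) hu0 hw0
  have hgw : ∀ k : K, g (k • g.symm u) = k • u := fun k => by
    have h1 : g (g.symm u) = u := g.apply_symm_apply u
    have h2' : g (b • g.symm u) = b • u := (hc u).symm.trans hcu
    rcases hcases k with rfl | rfl | rfl | rfl
    · simp
    · rw [one_smul, h1, one_smul]
    · exact h2'
    · rw [add_smul, one_smul, map_add, h2', h1, add_smul, one_smul]
  have hlin := linear_of_fixes O hm hall hno hw0
    (mul_mem (hall (n.restrictScalars F) (linear_preserves n)) hg)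
    (fun k => by
      show n (g (k • g.symm u)) = _
      rw [hgw, map_smul, hn]) b e
  change n (g (b • e)) = b • n (g e) at hlin
  rw [hgo, hge, ← map_smul] at hlin
  exact hf (n.injective hlin ▸ Submodule.mem_span_singleton.2 ⟨b, rfl⟩)

end CfsgLib.MaxSub.ExtLin
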