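import Cfsg.Agent.Lib.MaxSub.ExtLin.Partition
import Mathlib.RingTheory.LittleWedderburn

/-!
An overgroup is transitive on independent tuples as long as the degree of the extension.
-/

set_option autoImplicit false

namespace CfsgLib.MaxSub.ExtLin

open Module

variable {F K V : Type*} [Field F] [Fintype F] [Field K] [Algebra F K] [AddCommGroup V] [Module F V]
  [Module K V] [IsScalarTower F K V] [FiniteDimensional F V] {G : Subgroup (V ≃ₗ[F] V)}

/-- The elements of norm one additively generate the field. -/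
theorem closure_norm_one [FiniteDimensional F K] (hr : 2 ≤ finrank F K) :
    AddSubgroup.closure {l : K | Algebra.norm F l = 1} = ⊤ := by
  classical
  haveI : Finite K := Module.finite_of_finite F
  haveI : Fintype K := Fintype.ofFinite K
  let T : Submonoid K :=
    { carrier := {l | Algebra.norm F l = 1}
      mul_mem' := fun {a b} (ha : Algebra.norm F a = 1) (hb : Algebra.norm F b = 1) => by
        show Algebra.norm F (a * b) = 1
        rw [map_mul, ha, hb, one_mul]
      one_mem' := map_one (Algebra.norm F) }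
  have hsub : AddSubgroup.closure {l : K | Algebra.norm F l = 1} =
      (Subring.closure (T : Set K)).toAddSubgroup := by
    ext x
    show x ∈ AddSubgroup.closure _ ↔ x ∈ Subring.closure (T : Set K)
    rw [Subring.mem_closure_iff, Submonoid.closure_eq]
    rfl
  obtain ⟨q, hq⟩ : ∃ q, Fintype.card F = q := ⟨_, rfl⟩
  obtain ⟨r, hr'⟩ : ∃ r, finrank F K = r := ⟨_, rfl⟩
  have hq2 : 2 ≤ q := hq ▸ Fintype.one_lt_card
  have hK : Fintype.card K = q ^ r := by
    rw [← Nat.card_eq_fintype_card, Module.natCard_eq_pow_finrank (K := F), Nat.card_eq_fintype_card,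
      hq, hr']
  let ψ : Kˣ →* Kˣ := powMonoidHom (q - 1)
  have hker : Nat.card ψ.ker ≤ q - 1 := by
    rw [Nat.card_eq_fintype_card]
    calc Fintype.card ψ.ker ≤ (Polynomial.nthRootsFinset (q - 1) (1 : K)).card := by
          rw [← Fintype.card_coe]
          refine Fintype.card_le_of_injective (fun u => ⟨((u : Kˣ) : K), ?_⟩) fun a b h =>
            Subtype.ext (Units.ext (congrArg Subtype.val h))
          rw [Polynomial.mem_nthRootsFinset (by omega)]
          exact congrArg Units.val (u.2 : ψ u = 1)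
      _ ≤ q - 1 := by
          rw [Polynomial.nthRootsFinset_def]
          exact (Multiset.toFinset_card_le _).trans (Polynomial.card_nthRoots _ _)
  obtain ⟨S, hS⟩ : ∃ S, Subring.closure (T : Set K) = S := ⟨_, rfl⟩
  have hrange : Nat.card ψ.range ≤ Nat.card S := by
    refine Nat.card_le_card_of_injective (fun u => ⟨((u : Kˣ) : K), ?_⟩) fun a b h =>
      Subtype.ext (Units.ext (congrArg Subtype.val h))
    obtain ⟨w, hw⟩ := u.2
    refine hS ▸ Subring.subset_closure ?_
    show Algebra.norm F ((u : Kˣ) : K) = 1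
    rw [← hw, powMonoidHom_apply, Units.val_pow_eq_pow_val, map_pow, ← hq]
    exact FiniteField.pow_card_sub_one_eq_one _ fun e =>
      w.ne_zero (Algebra.norm_eq_zero_iff.1 e)
  have hcard : q ^ r - 1 ≤ (q - 1) * Nat.card S := by
    have h1 := Subgroup.card_mul_index ψ.ker
    rw [Subgroup.index_ker, Nat.card_units, Nat.card_eq_fintype_card (α := K), hK] at h1
    rw [← h1]
    exact Nat.mul_le_mul hker hrange
  -- a proper subring is too small
  haveI : IsDomain S := inferInstance
  letI : Field S := (Finite.isDomain_to_isField S).toField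
  have hSK : Nat.card S ^ finrank S K = q ^ r := by
    rw [← Module.natCard_eq_pow_finrank (K := S), Nat.card_eq_fintype_card, hK]
  by_cases htop : S = ⊤
  · rw [hsub, hS, htop]; rfl
  exfalso
  have hd : 2 ≤ finrank S K := by
    have h0 : 0 < finrank S K := Module.finrank_pos
    by_contra h
    rw [show finrank S K = 1 by omega, pow_one, ← hK] at hSK
    refine htop (eq_top_iff.2 fun x _ => ?_)
    have := (Subtype.val_injective.bijective_of_nat_card_le (f := ((↑) : S → K))
      (by rw [hSK, Nat.card_eq_fintype_card])).2 x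
    obtain ⟨y, rfl⟩ := this
    exact y.2
  have h2 : Nat.card S ^ 2 ≤ q ^ r := hSK ▸ Nat.pow_le_pow_right Nat.card_pos hd
  have h3 : q ^ (r - 1) + 1 ≤ Nat.card S := by
    have e : q ^ r = q ^ (r - 1) * q := by rw [← pow_succ]; congr 1; omega
    have h1 : 2 ≤ q ^ (r - 1) := hq2.trans (Nat.le_self_pow (by omega) q)
    by_contra h
    have h4 : (q - 1) * Nat.card S ≤ (q - 1) * q ^ (r - 1) := Nat.mul_le_mul le_rfl (by omega)
    have h5 : (q - 1) * q ^ (r - 1) + q ^ (r - 1) = q ^ r := by
      rw [e, ← Nat.succ_mul, Nat.succ_eq_add_one, Nat.sub_add_cancel (by omega : 1 ≤ q)]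
      ring
    omega
  have h6 : q ^ r ≤ q ^ (r - 1) * q ^ (r - 1) := by
    rw [← pow_add]; exact Nat.pow_le_pow_right (by omega) (by omega)
  have h7 : (q ^ (r - 1) + 1) ^ 2 ≤ Nat.card S ^ 2 := Nat.pow_le_pow_left h3 2
  generalize q ^ (r - 1) = A at h6 h7
  generalize Nat.card S = N at h2 h7
  generalize q ^ r = B at h2 h6
  nlinarith

/-- A coset of a subspace not inside another leaves it. -/
theorem exists_add_notMem {L M : Submodule F V} (h : ¬ L ≤ M) (x : V) : ∃ l ∈ L, x + l ∉ M := by
  by_contra hc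
  push Not at hc
  refine h fun l hl => ?_
  simpa using M.sub_mem (hc l hl) (hc 0 L.zero_mem)

omit [Fintype F] [Algebra F K] [Module F V] [IsScalarTower F K V] [FiniteDimensional F V] in
theorem det_diag [Module.Finite K V] (π : Dual K V) {x : V} (hx : π x = 1) (l : K) :
    LinearMap.det (LinearMap.transvection π ((l - 1) • x)) = l := by
  rw [LinearMap.transvection.det, map_smul, hx, smul_eq_mul, mul_one, add_sub_cancel]

/-- The case of a plane over the extension field. -/
theorem conn_plane [FiniteDimensional F K] (O : Over F K G) (hm : finrank K V = 2) {v : V}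
    (hv : v ≠ 0) {U : Submodule F V} (hUL : U ≤ Lin F K v) {M : Submodule F V} (hM : Mem G K M)
    (hUM : U ≤ M) (hne : M ≠ Lin F K v) {x y : V} (hx : x ∉ Lin F K v) (hy : y ∉ Lin F K v) :
    Conn G U x y := by
  haveI : Module.Finite K V := Module.Finite.right F K V
  haveI : Finite K := Module.finite_of_finite F
  have hML : ¬ M ≤ Lin F K v := fun h =>
    hne (Submodule.eq_of_le_of_finrank_eq h (by rw [hM.finrank_eq, finrank_lin hv]))
  have hLM : ¬ Lin F K v ≤ M := fun h =>
    hne (Submodule.eq_of_le_of_finrank_eq h (by rw [hM.finrank_eq, finrank_lin hv])).symm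
  obtain ⟨c, hcM, hcL⟩ := SetLike.not_le_iff_exists.1 hML
  obtain ⟨π, hπv, hπc⟩ := exists_functional_one (P := K ∙ v) (x := c) hcL
  have hπ : ∀ z, π z = 0 → z ∈ Lin F K v := by
    intro z hz
    have hker : K ∙ v ≤ LinearMap.ker π := fun p hp => hπv p hp
    refine (Submodule.eq_of_le_of_finrank_eq hker ?_).ge hz
    have h1 := Submodule.finrank_lt (K := K) (V := V) (s := LinearMap.ker π) fun e => by
      have : c ∈ LinearMap.ker π := e ▸ Submodule.mem_top
      rw [LinearMap.mem_ker, hπc] at this
      exact one_ne_zero this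
    have h2 := Submodule.finrank_mono hker
    rw [finrank_span_singleton hv] at h2 ⊢
    omega
  -- translations and norm one diagonal maps
  have htrans : ∀ z : V, π z ≠ 0 → ∀ l ∈ Lin F K v, Conn G U z (z + l) := fun z hz l hl => by
    refine (conn_tr O (φ := (π z)⁻¹ • π) (c := l) (by simp [hπv l hl]) (U := U)
      (fun u hu => ?_) ?_)
    · simp [hπv u (hUL hu)]
    · simp [inv_mul_cancel₀ hz]
  have hdiag : ∀ l : K, Algebra.norm F l = 1 → ∃ g ∈ G, (∀ u ∈ Lin F K v, g u = u) ∧ g c = l • c := by
    intro l hl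
    have hl0 : l ≠ 0 := fun e => by rw [e, Algebra.norm_zero] at hl; exact zero_ne_one hl
    have hb : Function.Bijective (LinearMap.transvection π ((l - 1) • c)) := by
      rw [← Module.End.isUnit_iff]
      exact (LinearMap.isUnit_iff_isUnit_det _).2 (by
        rw [det_diag π hπc]; exact hl0.isUnit)
    obtain ⟨f, hf⟩ : ∃ f : V ≃ₗ[K] V, f.toLinearMap = LinearMap.transvection π ((l - 1) • c) :=
      ⟨LinearEquiv.ofBijective _ hb, rfl⟩
    refine ⟨f.restrictScalars F, O.lin f ?_, fun u hu => ?_, ?_⟩
    · rw [LinearMap.det_restrictScalars, hf, det_diag π hπc, hl]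
    · show f.toLinearMap u = u
      rw [hf, LinearMap.transvection.apply, hπv u hu, zero_smul, add_zero]
    · show f.toLinearMap c = l • c
      rw [hf, LinearMap.transvection.apply, hπc, one_smul, sub_smul, one_smul, add_sub_cancel]
  -- the values of the orbit
  obtain ⟨l₀, hl₀, hl₀M⟩ := exists_add_notMem hLM x
  let Y : Set K := {a | ∃ z, z ∉ M ∧ π z = a ∧ Conn G U x z}
  have hxπ : π x ≠ 0 := fun e => hx (hπ x e)
  have hY0 : π x ∈ Y := ⟨x + l₀, hl₀M, by rw [map_add, hπv l₀ hl₀, add_zero], htrans x hxπ l₀ hl₀⟩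
  let A : Set K := {d | ∀ a ∈ Y, a + d ∈ Y}
  have hgen : ∀ l : K, Algebra.norm F l = 1 → l ∈ A := by
    intro l hl a ha
    obtain ⟨z, hzM, rfl, hz⟩ := ha
    obtain ⟨g, hg, hgL, hgc⟩ := hdiag l hl
    have hM' := hM.map hg
    have hUM' : U ≤ M.map g.toLinearMap := fun u hu => ⟨u, hUM hu, hgL u (hUL hu)⟩
    have hcM' : l • c ∈ M.map g.toLinearMap := ⟨c, hcM, hgc⟩
    obtain ⟨z', hz'M, hz'π, hz'⟩ : ∃ z', z' ∉ M.map g.toLinearMap ∧ π z' = π z ∧ Conn G U x z' := by
      by_cases h0 : π z = 0
      · refine ⟨z, fun ⟨w, hw, hwz⟩ => hzM ?_, rfl, hz⟩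
        have hz2 := hgL z (hπ z h0)
        have : w = z := g.injective (hwz.trans hz2.symm)
        exact this ▸ hw
      · obtain ⟨l', hl', hl'M⟩ := exists_add_notMem (L := Lin F K v) (M := M.map g.toLinearMap)
          (fun hle => hLM fun w hw => by
            obtain ⟨w', hw', hww⟩ := hle hw
            exact g.injective (hww.trans (hgL w hw).symm) ▸ hw') z
        exact ⟨z + l', hl'M, by rw [map_add, hπv l' hl', add_zero], hz.trans (htrans z h0 l' hl')⟩
    have hstep : Conn G U x (z' + l • c) := hz'.trans ((hM'.shift O hz'M hcM').mono hUM')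
    have hπ' : π (z' + l • c) = π z + l := by
      rw [map_add, map_smul, hπc, hz'π, smul_eq_mul, mul_one]
    show ∃ w, w ∉ M ∧ π w = π z + l ∧ Conn G U x w
    by_cases h0 : π z + l = 0
    · refine ⟨z' + l • c, fun hin => ?_, hπ', hstep⟩
      have hin' : z' + l • c ∈ M.map g.toLinearMap := ⟨_, hin, hgL _ (hπ _ (hπ'.trans h0))⟩
      exact hz'M (by simpa using (M.map g.toLinearMap).sub_mem hin' hcM')
    · obtain ⟨l', hl', hl'M⟩ := exists_add_notMem hLM (z' + l • c)
      refine ⟨z' + l • c + l', hl'M, by rw [map_add, hπ', hπv l' hl', add_zero], hstep.trans ?_⟩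
      exact htrans _ (by rwa [hπ']) l' hl'
  have hall : ∀ d, d ∈ A := by
    intro d
    have hA : AddSubgroup.closure {l : K | Algebra.norm F l = 1} ≤
        AddSubgroup.closure A := AddSubgroup.closure_mono hgen
    have hd := hA (closure_norm_one O.prime.two_le ▸ AddSubgroup.mem_top d)
    have hAM : A = (AddSubmonoid.mk ⟨A, fun {p q} hp hq a ha => by
      rw [← add_assoc]; exact hq _ (hp a ha)⟩ (fun a ha => by rwa [add_zero]) : AddSubmonoid K) := rfl
    rw [← AddSubgroup.mem_toAddSubmonoid, AddSubgroup.closure_toAddSubmonoid_of_finite, hAM,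
      AddSubmonoid.closure_eq] at hd
    exact hd
  have hyπ : π y ≠ 0 := fun e => hy (hπ y e)
  obtain ⟨z, -, hzπ, hz⟩ : π y ∈ Y := by simpa using hall (π y - π x) _ hY0
  have hzy := htrans z (by rwa [hzπ]) (y - z) (hπ _ (by rw [map_sub, hzπ, sub_self]))
  rw [add_sub_cancel] at hzy
  exact hz.trans hzy

/-- Transitivity off the subspaces of a line. -/
theorem tr_in_line [FiniteDimensional F K] (O : Over F K G) {s : ℕ} (hb : Below G s) (hs : 0 < s)
    (hsr : s < finrank F K) {v : V} (hv : v ≠ 0) {U : Submodule F V} (hUL : U ≤ Lin F K v)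
    (hU : finrank F U = s) : TR G U := by
  haveI : Module.Finite K V := Module.Finite.right F K V
  have hcl := cl_eq_self O hb hs hsr hv hUL hU
  have hmem : ∀ z, z ∉ U → ∃ M, Mem G K M ∧ U ≤ M ∧ z ∉ M := fun z hz => by
    rw [← hcl, mem_cl] at hz
    push Not at hz
    exact hz
  obtain ⟨z₀, hz₀, hz₀U⟩ := SetLike.exists_of_lt (lt_of_le_of_ne hUL fun e => by
    rw [e, finrank_lin hv] at hU; omega)
  obtain ⟨M₀, hM₀, hUM₀, hzM₀⟩ := hmem z₀ hz₀U
  have hout : ∀ x y : V, x ∉ Lin F K v → y ∉ Lin F K v → Conn G U x y := fun x y hx hy => by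
    by_cases hm : finrank K V = 2
    · exact conn_plane O hm hv hUL hM₀ hUM₀ (fun e => hzM₀ (e ▸ hz₀)) hx hy
    · have := O.two
      exact (out_all O (P := K ∙ v) (by rw [finrank_span_singleton hv]; omega) hx hy).mono hUL
  have hmove : ∀ z, z ∉ U → ∃ z', z' ∉ Lin F K v ∧ Conn G U z z' := fun z hz => by
    by_cases hzL : z ∈ Lin F K v
    swap
    · exact ⟨z, hzL, Conn.refl U z⟩
    obtain ⟨M, hM, hUM, hzM⟩ := hmem z hz
    obtain ⟨c, hc, hcL⟩ := SetLike.not_le_iff_exists.1 fun h : M ≤ Lin F K v =>
      hzM (Submodule.eq_of_le_of_finrank_eq h (by rw [hM.finrank_eq, finrank_lin hv]) ▸ hzL)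
    exact ⟨z + c, fun h => hcL (by simpa using (Lin F K v).sub_mem h hzL),
      (hM.shift O hzM hc).mono hUM⟩
  intro x y hx hy
  obtain ⟨x', hx', hxx⟩ := hmove x hx
  obtain ⟨y', hy', hyy⟩ := hmove y hy
  exact hxx.trans ((hout x' y' hx' hy').trans hyy.symm)

theorem below_degree [FiniteDimensional F K] (O : Over F K G) : Below G (finrank F K) := by
  suffices h : ∀ s ≤ finrank F K, Below G s from h _ le_rfl
  intro s
  induction s with
  | zero => exact fun _ U hU => absurd hU (Nat.not_lt_zero _)
  | succ s ih =>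
    intro hs
    have hb := ih (by omega)
    rcases Nat.eq_zero_or_pos s with rfl | hs0
    · exact below_succ hb (by simp) (tr_bot O)
    · haveI : Module.Finite K V := Module.Finite.right F K V
      haveI : Nontrivial V := Module.nontrivial_of_finrank_pos (R := K) (by have := O.two; omega)
      obtain ⟨v, hv⟩ := exists_ne (0 : V)
      let b := Module.finBasisOfFinrankEq F (Lin F K v) (finrank_lin hv)
      let w : Fin s → V := fun i => (b (i.castLE (by omega)) : V)
      have hw : LinearIndependent F w :=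
        (b.linearIndependent.map' (Lin F K v).subtype (Lin F K v).ker_subtype).comp _
          (Fin.castLE_injective _)
      have hle : Submodule.span F (Set.range w) ≤ Lin F K v :=
        Submodule.span_le.2 (by rintro _ ⟨i, rfl⟩; exact (b _).2)
      have hU : finrank F (Submodule.span F (Set.range w)) = s := by
        rw [finrank_span_eq_card hw, Fintype.card_fin]
      exact below_succ hb hU (tr_in_line O hb hs0 (by omega) hv hle hU)

end CfsgLib.MaxSub.ExtLin
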